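import Cfsg.Agent.H91.GW.OverFour

/-!
# GW programme, P3: the four group Sylow case
-/

set_option autoImplicit false
set_option linter.unusedSectionVars false
set_option linter.style.haveILetI false

namespace Cfsg.Agent.H91.GW

open Subgroup Cfsg.Agent Cfsg.Agent.GW
open Cfsg.Agent.H39 (DGen)

universe u

set_option maxRecDepth 10000 in
/-- The orders of the elements of `A₅`. -/
theorem alt_five_orders : ∀ y : Equiv.Perm (Fin 5),
    Equiv.Perm.sign y = 1 → y ^ 2 = 1 ∨ y ^ 3 = 1 ∨ y ^ 5 = 1 := by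
  decide

variable {G : Type u} [Group G] [Finite G] {S : Sylow 2 G} {c s : G}

theorem mul_self_klein (hD : DGen (S : Subgroup G) 1 c s) : ∀ x ∈ (S : Subgroup G), x * x = 1 := by
  intro x hx
  by_cases hxc : x ∈ zpowers c
  · obtain ⟨i, rfl⟩ := hxc
    show c ^ i * c ^ i = 1
    rw [← zpow_add, ← two_mul, zpow_mul, show c ^ (2 : ℤ) = 1 by
      rw [show (2 : ℤ) = ((2 : ℕ) : ℤ) from rfl, zpow_natCast,
        show (2 : ℕ) = orderOf c by rw [hD.oc], pow_orderOf_eq_one], one_zpow]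
  · obtain ⟨i, rfl⟩ := hD.out_form hx hxc
    exact hD.out_mul_self i

theorem card_klein (hD : DGen (S : Subgroup G) 1 c s) : Nat.card (S : Subgroup G) = 4 := by
  obtain ⟨e⟩ := H61.GW.nonempty_dihedral hD
  rw [Nat.card_congr e.toEquiv, DihedralGroup.nat_card]

/-- A proper subgroup over `C(t)` with one class of involutions forces `O(C(t)) = 1`. -/
theorem coreAt_eq_bot_of_fused (h : Cfg S 1 c s) {M : Subgroup G} (hM : M ≠ ⊤)
    (hCM : centralizer ({c ^ 1} : Set G) ≤ M) (hs : ∃ x ∈ M, x * s * x⁻¹ = c ^ 1)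
    (hcs : ∃ x ∈ M, x * (c * s) * x⁻¹ = c ^ 1) : coreAt (c ^ 1) = ⊥ := by
  classical
  haveI := h.simple
  have hD := h.gen
  have hSM : (S : Subgroup G) ≤ M := (H61.GW.sylow_le_centralizer hD).trans hCM
  have key : ∀ a : M, orderOf a = 2 → ∃ x : M, x * a * x⁻¹ = ⟨c ^ 1, hSM hD.z_mem⟩ := by
    intro a ha
    obtain ⟨x, hx, hxa⟩ := involution_cases hD hSM a.2 (by rwa [Subgroup.orderOf_coe])
    rcases hxa with e | e | e
    · exact ⟨⟨x, hx⟩, Subtype.ext e⟩
    · obtain ⟨y, hy, hys⟩ := hs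
      refine ⟨⟨y, hy⟩ * ⟨x, hx⟩, Subtype.ext ?_⟩
      show y * x * a * (y * x)⁻¹ = c ^ 1
      rw [show y * x * (a : G) * (y * x)⁻¹ = y * (x * a * x⁻¹) * y⁻¹ by group, e, hys]
    · obtain ⟨y, hy, hys⟩ := hcs
      refine ⟨⟨y, hy⟩ * ⟨x, hx⟩, Subtype.ext ?_⟩
      show y * x * a * (y * x)⁻¹ = c ^ 1
      rw [show y * x * (a : G) * (y * x)⁻¹ = y * (x * a * x⁻¹) * y⁻¹ by group, e, hys]
  have hidx : M.index ≤ 5 := H35.GW.klein_index_le_five S (card_klein hD) (mul_self_klein hD)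
    (one_class h) hD.z_mem hD.z_order M hCM fun a b ha hb =>
      (isConj_iff.2 (key a ha)).trans (isConj_iff.2 (key b hb)).symm
  -- the action on the cosets
  haveI : Fintype (G ⧸ M) := Fintype.ofFinite _
  let ι : G ⧸ M ↪ Fin 5 := (Fintype.equivFin (G ⧸ M)).toEmbedding.trans
    ⟨Fin.castLE (by rwa [← Nat.card_eq_fintype_card, ← Subgroup.index_eq_card]),
      Fin.castLE_injective _⟩
  let ρ : G →* Equiv.Perm (Fin 5) :=
    (Equiv.Perm.viaEmbeddingHom ι).comp (MulAction.toPermHom G (G ⧸ M))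
  have hρ : Function.Injective ρ := by
    refine (Equiv.Perm.viaEmbeddingHom_injective ι).comp ?_
    rw [← MonoidHom.ker_eq_bot_iff, ← Subgroup.normalCore_eq_ker]
    refine (h.simple.eq_bot_or_eq_top_of_normal M.normalCore inferInstance).resolve_right fun e => hM ?_
    exact top_le_iff.1 (e ▸ M.normalCore_le)
  have hsign : ∀ y : G, Equiv.Perm.sign (ρ y) = 1 := by
    intro y
    have hk : ((Equiv.Perm.sign (α := Fin 5)).comp ρ).ker.index ≠ 2 := no_index_two h _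
    have hd : ((Equiv.Perm.sign (α := Fin 5)).comp ρ).ker.index ∣ 2 := by
      rw [Subgroup.index_ker]
      refine (Subgroup.card_subgroup_dvd_card _).trans ?_
      rw [Nat.card_eq_fintype_card, Fintype.card_units_int]
    have h1 : ((Equiv.Perm.sign (α := Fin 5)).comp ρ).ker = ⊤ :=
      Subgroup.index_eq_one.1 (((Nat.dvd_prime Nat.prime_two).1 hd).resolve_right hk)
    exact MonoidHom.mem_ker.1 (h1 ▸ mem_top y : y ∈ ((Equiv.Perm.sign (α := Fin 5)).comp ρ).ker)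
  rw [eq_bot_iff]
  intro x hx
  obtain ⟨ho, hxt⟩ := (mem_coreAt_iff hD).1 hx
  have hsmall : ∀ n : ℕ, (x * c ^ 1) ^ n = 1 → x ^ n * (c ^ 1) ^ n = 1 := fun n hn => by
    rw [← hxt.mul_pow]; exact hn
  have hy : (x * c ^ 1) ^ 2 = 1 ∨ (x * c ^ 1) ^ 3 = 1 ∨ (x * c ^ 1) ^ 5 = 1 := by
    simpa only [← map_pow, map_eq_one_iff ρ hρ] using alt_five_orders (ρ (x * c ^ 1)) (hsign _)
  have hodd : ∀ n : ℕ, Odd n → x ^ n * (c ^ 1) ^ n ≠ 1 := fun n hn e => by
    obtain ⟨m, rfl⟩ := hn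
    have h2 : (c ^ 1) ^ (2 * m + 1) = c ^ 1 := by
      rw [pow_succ, pow_mul, sq, H39.mul_self_of_orderOf_eq_two hD.z_order, one_pow, one_mul]
    rw [h2] at e
    have h3 : orderOf (c ^ 1) ∣ orderOf x := by
      rw [← inv_eq_of_mul_eq_one_right e, orderOf_inv]
      exact orderOf_pow_dvd _
    rw [hD.z_order] at h3
    exact Nat.not_even_iff_odd.2 ho (even_iff_two_dvd.2 h3)
  rcases hy with e | e | e
  · have h1 := hsmall 2 e
    rw [show (c ^ 1) ^ 2 = 1 by rw [sq, H39.mul_self_of_orderOf_eq_two hD.z_order], mul_one] at h1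
    exact mem_bot.2 (orderOf_eq_one_iff.1 (Nat.eq_one_of_dvd_coprimes (Nat.coprime_two_left.2 ho)
      (orderOf_dvd_of_pow_eq_one h1) dvd_rfl))
  · exact absurd (hsmall 3 e) (hodd 3 ⟨1, rfl⟩)
  · exact absurd (hsmall 5 e) (hodd 5 ⟨2, rfl⟩)

/-- A fused four group makes one class when the Sylow subgroup is a four group. -/
theorem coreAt_eq_bot_of_fuses (h : Cfg S 1 c s) {M : Subgroup G} (hM : M ≠ ⊤)
    (hCM : centralizer ({c ^ 1} : Set G) ≤ M) {g b : G} (hgM : g ∈ M) (hbo : orderOf b = 2)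
    (hbt : b ≠ c ^ 1) (hc : Commute (c ^ 1) b) (hg : Fuses g (c ^ 1) b) : coreAt (c ^ 1) = ⊥ := by
  have hD := h.gen
  obtain ⟨x, hx, hside⟩ := exists_side hD hbo hbt hc hg
  have hyM : x * g * x⁻¹ ∈ M := mul_mem (mul_mem (hCM hx) hgM) (inv_mem (hCM hx))
  have key : ∀ a a' : G, Fuses (x * g * x⁻¹) (c ^ 1) a → a' = c ^ 1 * a →
      (∃ y ∈ M, y * a * y⁻¹ = c ^ 1) ∧ (∃ y ∈ M, y * a' * y⁻¹ = c ^ 1) := by
    intro a a' hf e
    refine ⟨exists_of_fuses hf hyM, (x * g * x⁻¹)⁻¹ * (x * g * x⁻¹)⁻¹,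
      mul_mem (inv_mem hyM) (inv_mem hyM), ?_⟩
    set y := x * g * x⁻¹
    calc y⁻¹ * y⁻¹ * a' * (y⁻¹ * y⁻¹)⁻¹ = y⁻¹ * (y⁻¹ * a' * y) * y := by simp [mul_assoc]
      _ = y⁻¹ * a * y := by rw [e, ← hf.2]; group
      _ = c ^ 1 := by rw [← hf.1]; group
  have hcc : c * c = 1 := mul_self_klein hD c hD.mem_c
  rcases hside with ⟨-, hf⟩ | ⟨-, hf⟩
  · obtain ⟨h1, h2⟩ := key s (c * s) hf (by rw [pow_one])
    exact coreAt_eq_bot_of_fused h hM hCM h1 h2
  · obtain ⟨h1, h2⟩ := key (c * s) s hf (by rw [pow_one, ← mul_assoc, hcc, one_mul])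
    exact coreAt_eq_bot_of_fused h hM hCM h2 h1

/-- A component fuses the four group. -/
theorem coreAt_eq_bot_of_layer (h : Cfg S 1 c s) {M : Subgroup G} (hM : M ≠ ⊤)
    (hCM : centralizer ({c ^ 1} : Set G) ≤ M) (hE : Components.layerIn M ≠ ⊥) :
    coreAt (c ^ 1) = ⊥ := by
  haveI : Fact (Nat.Prime 2) := ⟨Nat.prime_two⟩
  have hD := h.gen
  have hSM : (S : Subgroup G) ≤ M := (H61.GW.sylow_le_centralizer hD).trans hCM
  obtain ⟨a, haE, hao⟩ : ∃ a ∈ Components.layerIn M, orderOf a = 2 := by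
    rcases H36.GW.meets_four hD hE (c ^ 1) s (hSM hD.z_mem) (hSM hD.mem_s) hD.z_order hD.os
      (fun e => hD.out (e ▸ Subgroup.pow_mem _ (mem_zpowers c) 1)) (hD.z_central hD.mem_s).symm
      with h1 | h1 | h1
    · exact ⟨_, h1, hD.z_order⟩
    · exact ⟨_, h1, hD.os⟩
    · exact ⟨_, h1, by simpa using hD.orderOf_out 1⟩
  obtain ⟨g, hgE, b, hbo, hba, hab, hg⟩ := H36.GW.fused_inner hD hE a haE hao
  have hgM : g ∈ M := map_subtype_le _ hgE
  have haM : a ∈ M := map_subtype_le _ haE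
  have hbM : b ∈ M := hg.1 ▸ mul_mem (mul_mem hgM haM) (inv_mem hgM)
  obtain ⟨T, hT, hTm⟩ := H39.klein_mk hao hbo (Ne.symm hba) hab.eq
  have hTM : T ≤ M := fun v hv => by
    rcases (hTm v).mp hv with rfl | rfl | rfl | rfl
    exacts [one_mem _, haM, hbM, mul_mem haM hbM]
  have hp : IsPGroup 2 (T.subgroupOf M) :=
    (IsPGroup.of_card (n := 2) hT.card_four).comap_of_injective _ (Subgroup.subtype_injective _)
  obtain ⟨x, hx⟩ := H39.exists_conj_le_sylow hp (S.subtype hSM)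
  set φ := (MulAut.conj (x : G)).toMonoidHom with hφ
  have hTS : T.map φ = (S : Subgroup G) := by
    refine Subgroup.eq_of_le_of_card_ge ?_ (le_of_eq ?_)
    · rintro _ ⟨v, hv, rfl⟩
      exact hx ⟨v, hTM hv⟩ (mem_subgroupOf.mpr hv)
    · rw [card_map_of_injective (MulAut.conj (x : G)).injective, hT.card_four, card_klein hD]
  obtain ⟨u, hu, hut⟩ : c ^ 1 ∈ T.map φ := hTS ▸ hD.z_mem
  have hgx : φ g ∈ M := by
    simp only [hφ, MulEquiv.coe_toMonoidHom, MulAut.conj_apply]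
    exact mul_mem (mul_mem x.2 hgM) (inv_mem x.2)
  have hgab : g * (a * b) * g⁻¹ = a := by
    rw [← conj_mul, hg.1, hg.2, ← mul_assoc, hab.symm.eq, mul_assoc,
      H39.mul_self_of_orderOf_eq_two hbo, mul_one]
  have hbab : b * (a * b) = a := by
    rw [← mul_assoc, hab.symm.eq, mul_assoc, H39.mul_self_of_orderOf_eq_two hbo, mul_one]
  have haab : a * b * a = b := by
    rw [mul_assoc, ← hab.eq, ← mul_assoc, H39.mul_self_of_orderOf_eq_two hao, one_mul]
  -- rotate the cycle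
  obtain ⟨v, hvo, hvu, huv, hf⟩ : ∃ v, orderOf v = 2 ∧ v ≠ u ∧ Commute u v ∧ Fuses g u v := by
    have habo : orderOf (a * b) = 2 := orderOf_eq_prime
      (by rw [hab.mul_pow, sq, sq, H39.mul_self_of_orderOf_eq_two hao,
        H39.mul_self_of_orderOf_eq_two hbo, one_mul])
      (fun e => hba ((eq_inv_of_mul_eq_one_right e).trans (H39.inv_eq_of_orderOf_eq_two hao)))
    rcases (hTm u).mp hu with e | e | e | e <;> subst u
    · exfalso
      rw [map_one] at hut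
      have := hD.z_order
      rw [← hut, orderOf_one] at this
      exact absurd this (by decide)
    · exact ⟨b, hbo, hba, hab, hg⟩
    · exact ⟨a * b, habo, fun e => H39.ne_one_of_orderOf_eq_two hao (mul_eq_right.1 e),
        (hab.symm.mul_right (Commute.refl _)), hg.2, by rw [hgab, hbab]⟩
    · exact ⟨a, hao, fun e => H39.ne_one_of_orderOf_eq_two hbo (mul_eq_left.1 e.symm),
        (Commute.refl a).mul_left hab.symm, hgab, by rw [hg.1, haab]⟩
  refine coreAt_eq_bot_of_fuses h hM hCM hgx (b := φ v) ?_ ?_ (hut ▸ huv.map φ) ⟨?_, ?_⟩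
  · rw [hφ, MulEquiv.coe_toMonoidHom, MulEquiv.orderOf_eq, hvo]
  · exact fun e => hvu ((MulAut.conj (x : G)).injective (e.trans hut.symm))
  · rw [← hut, ← map_inv, ← map_mul, ← map_mul, hf.1]
  · rw [← hut, ← map_inv, ← map_mul, ← map_mul, ← map_mul, hf.2]

end Cfsg.Agent.H91.GW
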