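import Cfsg.Agent.H91.GW.OverLayer
import Cfsg.Agent.H91.GW.OverKlein

/-!
# GW programme, P3: OverStep from FittingStep
-/

set_option autoImplicit false
set_option linter.unusedSectionVars false
set_option linter.style.haveILetI false

namespace Cfsg.Agent.H91.GW

open Subgroup Cfsg.Agent Cfsg.Agent.GW

universe u

variable {G : Type u} [Group G] [Finite G] {S : Sylow 2 G} {l : ℕ} {c s : G}

/-- Two classes: a maximal subgroup strictly over `C(t)` gives a two-class subgroup. -/
theorem twoClass_of_over (h : Cfg S l c s) (hl : 2 ≤ l) (hO : coreAt (c ^ l) ≠ ⊥) {M : Subgroup G}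
    (hM : IsCoatom M) (hCM : centralizer ({c ^ l} : Set G) ≤ M)
    (hne : M ≠ centralizer ({c ^ l} : Set G))
    (hfit : ∀ x ∈ Components.fitIn M, Commute x (c ^ l)) :
    TwoClass M l c s ∨ TwoClass M l c (c * s) := by
  have hD := h.gen
  by_cases hE : Components.layerIn M = ⊥
  · obtain ⟨g, hgM, b, hbo, hbt, hc, hg, hN⟩ := exists_cycle hD hCM hne hE hfit
    obtain ⟨x, hx, hside⟩ := exists_side hD hbo hbt hc hg
    have hgM' : x * g * x⁻¹ ∈ M := mul_mem (mul_mem (hCM hx) hgM) (inv_mem (hCM hx))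
    have hN' : M ≤ normalizer
        ((closure ({c ^ l, x * b * x⁻¹} : Set G) : Subgroup G) : Set G) := by
      set φ := (MulAut.conj x).toMonoidHom with hφ
      have h1 : (closure ({c ^ l, b} : Set G) : Subgroup G).map φ = closure ({c ^ l, b} : Set G) :=
        H39.mem_normalizer_iff_map_conj.1 (hN (hCM hx))
      rw [MonoidHom.map_closure, Set.image_pair] at h1
      have ht : φ (c ^ l) = c ^ l := by
        rw [hφ, MulEquiv.coe_toMonoidHom, MulAut.conj_apply, mem_centralizer_singleton_iff.1 hx,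
          mul_inv_cancel_right]
      rw [ht] at h1
      show M ≤ normalizer ((closure ({c ^ l, φ b} : Set G) : Subgroup G) : Set G)
      rw [h1]
      exact hN
    rcases hside with ⟨e, hf⟩ | ⟨e, hf⟩
    · exact Or.inl (twoClass_four h hl hO hM hCM hgM' hf (e ▸ hN'))
    · exact Or.inr (twoClass_four (cfg_swap h) hl hO hM hCM hgM' hf (e ▸ hN'))
  · have hSM : (S : Subgroup G) ≤ M := (H61.GW.sylow_le_centralizer hD).trans hCM
    have htE := t_mem_layerIn hD hl hSM hE
    obtain ⟨g, hgE, b, hbo, hbt, hc, hg⟩ := H36.GW.fused_inner hD hE _ htE hD.z_order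
    obtain ⟨x, hx, hside⟩ := exists_side hD hbo hbt hc hg
    have hgE' : x * g * x⁻¹ ∈ Components.layerIn M := by
      haveI : (Cfsg.layer ↥M).Normal := Components.layer_normal
      exact (mem_normalizer_iff.1 (Components.le_normalizer_map_subtype _ (hCM hx)) g).1 hgE
    rcases hside with ⟨-, hf⟩ | ⟨-, hf⟩
    · exact Or.inl (twoClass_layer h hl hM hCM hE hgE' hf)
    · exact Or.inr (twoClass_layer (cfg_swap h) hl hM hCM hE hgE' hf)

/-- `OverStep` from `FittingStep`. -/
theorem overStep (hF : FittingStep (G := G)) : OverStep (G := G) := by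
  intro S l c s h
  haveI := h.simple
  by_cases hO : coreAt (c ^ l) = ⊥
  · exact Or.inl hO
  by_cases hmax : CentMax l c
  · exact Or.inr (Or.inl hmax)
  obtain ⟨X, hX, hXne, hXC⟩ : ∃ X : Subgroup G, centralizer ({c ^ l} : Set G) ≤ X ∧ X ≠ ⊤ ∧
      X ≠ centralizer ({c ^ l} : Set G) := by
    by_contra! hno
    exact hmax fun X h1 h2 => hno X h1 h2
  obtain ⟨M, hM, hXM⟩ := (eq_top_or_exists_le_coatom X).resolve_left hXne
  have hCM := hX.trans hXM
  have hne : M ≠ centralizer ({c ^ l} : Set G) := fun e => hXC (le_antisymm (e ▸ hXM) hX)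
  have hfit := hF S l c s h M hM hCM
  rcases Nat.lt_or_ge l 2 with hl | hl
  · obtain rfl : l = 1 := by have := h.gen.lpos; omega
    exfalso
    refine hO ?_
    by_cases hE : Components.layerIn M = ⊥
    · obtain ⟨g, hgM, b, hbo, hbt, hc, hg, -⟩ := exists_cycle h.gen hCM hne hE hfit
      exact coreAt_eq_bot_of_fuses h hM.1 hCM hgM hbo hbt hc hg
    · exact coreAt_eq_bot_of_layer h hM.1 hCM hE
  · rcases twoClass_of_over h hl hO hM hCM hne hfit with hT | hT
    · exact Or.inr (Or.inr (Or.inl ⟨M, hT⟩))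
    · exact Or.inr (Or.inr (Or.inr ⟨M, hT⟩))

end Cfsg.Agent.H91.GW
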