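import Cfsg.Agent.H91.GW.OverTorus
import Cfsg.Agent.H65.GW.PslFacts

/-!
# GW programme, M3: the odd torus of an outer involution of `PGL(2,q)`

An outer involution `b` commuting with an involution `a` of `PSL(2,q)` centralises a torus element
of order `(q + e) / 2`, inverted by `a`, while elements of odd order centralising `a` have order
dividing `(q - e) / 4`, `e` the residue of `q` modulo four.
-/

set_option autoImplicit false
set_option linter.unusedSectionVars false
set_option linter.style.haveILetI false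

namespace Cfsg.Agent.H91.GW

open Subgroup Matrix Cfsg.Agent Cfsg.Agent.Linear Cfsg.Agent.H55
open Cfsg.Agent.H56 (PSLn SLn toP)
open Cfsg.Agent.H5.EvenCyclic (linAut)
open Cfsg.Agent.H63.GW (SylowDType)
open Cfsg.Agent.H4.GW (actHom)

universe u

section Field

variable {F : Type} [Field F] [Fintype F]

local notation "M2" => Matrix (Fin 2) (Fin 2) F

/-- The torus. -/
theorem exists_outer_torus_psl (hodd : Odd (Fintype.card F)) (h3 : 3 < Fintype.card F)
    {g : GL (Fin 2) F} (hg1 : linAut g ≠ (1 : MulAut (PSLn 2 F)))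
    (hg2 : linAut g * linAut g = (1 : MulAut (PSLn 2 F)))
    (hns : ¬ IsSquare (Matrix.GeneralLinearGroup.det g : F)) {A : SLn 2 F} (hA1 : toPSL A ≠ 1)
    (hA2 : toPSL A * toPSL A = 1) (hgA : linAut g (toPSL A) = toPSL A) :
    ∃ x : PSLn 2 F, linAut g x = x ∧ toPSL A * x * (toPSL A)⁻¹ = x⁻¹ ∧ Odd (orderOf x) ∧
      ∀ k : PSLn 2 F, Commute k (toPSL A) → Odd (orderOf k) →
        orderOf k < orderOf x ∧ (orderOf k).Coprime (orderOf x) := by
  classical
  have h2 := H4.GW.two_ne hodd
  obtain ⟨c, hcdet, hsq⟩ := trace_eq_zero_of_linAut hg1 hg2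
  have hc0 : c ≠ 0 := by rw [hcdet]; exact neg_ne_zero.2 (Units.ne_zero _)
  set g' : M2 := (g : M2) with hg'
  have hdetg : g'.det = -c := by
    rw [hg', ← Matrix.GeneralLinearGroup.val_det_apply, hcdet, neg_neg]
  have htr : g' 0 0 + g' 1 1 = 0 := by
    have hd := hdetg
    rw [Matrix.det_fin_two] at hd
    have e00 := congrFun (congrFun hsq 0) 0
    have e11 := congrFun (congrFun hsq 1) 1
    simp [Matrix.mul_apply, Fin.sum_univ_two] at e00 e11
    have h0 : (g' 0 0 + g' 1 1) * (g' 0 0 + g' 1 1) = 0 := by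
      linear_combination e00 + e11 + 2 * hd
    exact mul_self_eq_zero.1 h0
  have hginv : g' * ((g⁻¹ : GL (Fin 2) F) : M2) = 1 := by
    rw [hg', ← Units.val_mul, mul_inv_cancel, Units.val_one]
  have hginv' : ((g⁻¹ : GL (Fin 2) F) : M2) * g' = 1 := by
    rw [hg', ← Units.val_mul, inv_mul_cancel, Units.val_one]
  -- `A` anticommutes with `g`
  have hAt : (A : M2).trace = 0 := H65.GW.trace_eq_zero_of_invol hA1 hA2
  have hAns : ¬ IsScalarTwo (A : M2) := not_scalar_of_ne_one hA1
  have hanti : (A : M2) * g' = -(g' * (A : M2)) := by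
    have e : toPSL (H56.semiSL g (RingEquiv.refl F) A) = toPSL A := hgA
    have hm : H56.smat (H56.semiSL g (RingEquiv.refl F) A) =
        g' * (A : M2) * ((g⁻¹ : GL (Fin 2) F) : M2) := by rw [H56.smat_semiSL]; congr
    rcases (toPSL_two_eq_iff _ _).1 e with e' | e'
    · exfalso
      have e'' : g' * (A : M2) * ((g⁻¹ : GL (Fin 2) F) : M2) = (A : M2) := by rw [← hm, e']
      have hcomm : g' * (A : M2) = (A : M2) * g' := by
        calc g' * (A : M2) = g' * (A : M2) * ((g⁻¹ : GL (Fin 2) F) : M2) * g' := by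
              rw [mul_assoc (g' * (A : M2)), hginv', mul_one]
          _ = _ := by rw [e'']
      obtain ⟨α, β, hg⟩ := exists_of_commute hAns hcomm
      have hα : α = 0 := by
        have h0 : g'.trace = 0 := (Matrix.trace_fin_two g').trans htr
        rw [hg, trace_smul_add_smul, hAt, mul_zero, add_zero] at h0
        exact (mul_eq_zero.1 h0).resolve_left h2
      refine hns ⟨β, ?_⟩
      rw [Matrix.GeneralLinearGroup.val_det_apply, ← hg', hg, hα, zero_smul, zero_add, Matrix.det_smul,
        A.2, Fintype.card_fin, mul_one, pow_two]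
    · have e'' : g' * (A : M2) * ((g⁻¹ : GL (Fin 2) F) : M2) = -(A : M2) := by
        rw [← hm, e']; exact Matrix.SpecialLinearGroup.coe_neg A
      have h1 : g' * (A : M2) = -(A : M2) * g' := by
        calc g' * (A : M2) = g' * (A : M2) * ((g⁻¹ : GL (Fin 2) F) : M2) * g' := by
              rw [mul_assoc (g' * (A : M2)), hginv', mul_one]
          _ = _ := by rw [e'']
      rw [h1, Matrix.neg_mul, neg_neg]
  -- a nonscalar element of the torus of `g`
  obtain ⟨α, β, hα, hβ, hab⟩ := exists_conic h2 hc0 (by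
    by_cases h5 : Fintype.card F = 5
    · refine Or.inr ⟨by omega, fun t => ?_⟩
      obtain ⟨w, hw⟩ : IsSquare (-1 : F) := FiniteField.isSquare_neg_one_iff.2 (by omega)
      have key : ∀ a : F, a ≠ 0 → IsSquare (-a) → c * (t * t) ≠ a := by
        intro a ha0 ha e
        have ht : t ≠ 0 := by
          rintro rfl
          rw [zero_mul, mul_zero] at e
          exact ha0 e.symm
        refine hns ?_
        obtain ⟨r, hr⟩ := ha
        refine ⟨r / t, ?_⟩
        rw [hcdet] at e
        field_simp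
        linear_combination -e + hr
      exact ⟨key 1 one_ne_zero ⟨w, hw⟩, key (-1) (neg_ne_zero.2 one_ne_zero) ⟨1, by simp⟩⟩
    · obtain ⟨m, hm⟩ := hodd
      exact Or.inl (by omega))
  have hXdet : (α • (1 : M2) + β • g').det = 1 := by
    rw [det_smul_add_smul, hdetg, Matrix.trace_fin_two, htr]
    linear_combination hab
  let X : SLn 2 F := ⟨α • (1 : M2) + β • g', hXdet⟩
  have hXtr : (X : M2).trace = 2 * α := by
    show (α • (1 : M2) + β • g').trace = _
    rw [trace_smul_add_smul, Matrix.trace_fin_two g', htr, mul_zero, add_zero]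
  have hX4 : (X : M2).trace ^ 2 ≠ 4 := by
    rw [hXtr]
    intro h4
    have : (2 : F) * 2 * (c * (β * β)) = 0 := by linear_combination h4 - 4 * hab
    simp [h2, hc0, hβ] at this
  set C := Subgroup.centralizer ({X} : Set (SLn 2 F)) with hC
  haveI : IsCyclic ↥C := isCyclic_centralizer hX4
  -- the form of its elements
  have hform : ∀ Z ∈ C, ∃ γ δ : F, (Z : M2) = γ • (1 : M2) + δ • g' := by
    intro Z hZ
    obtain ⟨γ, δ, h⟩ := (mem_centralizer_SL_two (not_isScalarTwo_of_trace hX4)).1 hZ
    refine ⟨γ + δ * α, δ * β, ?_⟩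
    rw [h, show (X : M2) = α • (1 : M2) + β • g' from rfl]
    module
  obtain ⟨Z, hZ⟩ := IsCyclic.exists_ofOrder_eq_natCard (α := ↥C)
  have hZo : orderOf (Z : SLn 2 F) = Nat.card C := (Subgroup.orderOf_coe Z).trans hZ
  -- the order of the torus is twice an odd number
  have hneg1 : (-1 : SLn 2 F) ≠ 1 := by
    intro h
    have h00 := congrFun (congrFun (congrArg (fun Y : SLn 2 F => (Y : M2)) h) 0) 0
    simp at h00
    exact h2 (by linear_combination -h00)
  have hnot4 : ¬ 4 ∣ Nat.card C := by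
    intro h4
    set W : SLn 2 F := (Z : SLn 2 F) ^ (Nat.card C / 4) with hW
    have hWC : W ∈ C := C.pow_mem Z.2 _
    have hWo : orderOf W = 4 := by
      rw [hW, orderOf_pow_of_dvd (Nat.div_pos (Nat.le_of_dvd Nat.card_pos h4) (by omega)).ne'
        (by rw [hZo]; exact Nat.div_dvd_of_dvd h4), hZo, Nat.div_div_self h4 Nat.card_pos.ne']
    have hW2 : W * W = -1 := by
      rcases eq_one_or_neg_one_of_sq h2 (g := W * W) (by
        rw [← pow_two W, ← pow_add]
        rw [show 2 + 2 = orderOf W from hWo.symm]; exact pow_orderOf_eq_one W) with h | h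
      · exfalso
        have := orderOf_dvd_of_pow_eq_one (show W ^ 2 = 1 by rw [pow_two]; exact h)
        rw [hWo] at this
        exact absurd this (by decide)
      · exact h
    obtain ⟨γ, δ, hWf⟩ := hform W hWC
    have hWns : ¬ IsScalarTwo (W : M2) := fun hs => by
      rcases isScalarTwo_SL_iff.1 hs with h | h <;> rw [h] at hWo
      · simp at hWo
      · have := orderOf_dvd_of_pow_eq_one (show (-1 : SLn 2 F) ^ 2 = 1 by simp)
        rw [hWo] at this
        exact absurd this (by decide)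
    have hWt : (W : M2).trace = 0 := by
      by_contra hne
      refine hWns (isScalarTwo_iff.2 ⟨0, ?_⟩)
      have e := SL_sq_eq W
      rw [← Matrix.SpecialLinearGroup.coe_mul, hW2, Matrix.SpecialLinearGroup.coe_neg,
        Matrix.SpecialLinearGroup.coe_one] at e
      have e0 : (W : M2).trace • (W : M2) = 0 := by
        rw [← sub_left_inj (a := (1 : M2)), ← e, zero_sub]
      rw [zero_smul]
      exact (smul_eq_zero.1 e0).resolve_left hne
    rw [hWf, trace_smul_add_smul, Matrix.trace_fin_two g', htr, mul_zero, add_zero] at hWt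
    have hγ : γ = 0 := (mul_eq_zero.1 hWt).resolve_left h2
    have hdW : (W : M2).det = 1 := W.2
    rw [hWf, hγ, zero_smul, zero_add, Matrix.det_smul, Fintype.card_fin] at hdW
    have hδ : δ ≠ 0 := by
      rintro rfl
      simp at hdW
    refine hns ⟨δ⁻¹, ?_⟩
    rw [Matrix.GeneralLinearGroup.val_det_apply, ← hg']
    field_simp
    linear_combination hdW
  obtain ⟨q2, hq⟩ := hodd
  have hcardC : Nat.card C = Fintype.card F - 1 ∨ Nat.card C = Fintype.card F + 1 :=
    card_centralizer_cases hX4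
  obtain ⟨n, hn⟩ : 2 ∣ Nat.card C := by rcases hcardC with h | h <;> rw [h] <;> omega
  have hnodd : Odd n := by
    rcases Nat.even_or_odd n with ⟨m, hm⟩ | h
    · exact absurd ⟨m, by omega⟩ hnot4
    · exact h
  have hxo : orderOf (toPSL (Z : SLn 2 F)) = n := by
    have hZn : (Z : SLn 2 F) ^ n = -1 := by
      rcases eq_one_or_neg_one_of_sq h2 (g := (Z : SLn 2 F) ^ n) (by
        rw [← pow_add, ← two_mul, ← hn, ← hZo, pow_orderOf_eq_one]) with h | h
      · exfalso
        have := Nat.le_of_dvd (by obtain ⟨m, hm⟩ := hnodd; omega) (orderOf_dvd_of_pow_eq_one h)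
        obtain ⟨m, hm⟩ := hnodd
        omega
      · exact h
    refine Nat.dvd_antisymm (orderOf_dvd_of_pow_eq_one ?_) ?_
    · rw [← map_pow, hZn]
      exact (toPSL_two_eq_one_iff _).2 (Or.inr rfl)
    · have h1 := pow_orderOf_eq_one (toPSL (Z : SLn 2 F))
      rw [← map_pow, toPSL_two_eq_one_iff] at h1
      have h2n : 2 * n ∣ 2 * orderOf (toPSL (Z : SLn 2 F)) := by
        rw [← hn, ← hZo]
        refine orderOf_dvd_of_pow_eq_one ?_
        rw [mul_comm, pow_mul]
        rcases h1 with h | h <;> rw [h] <;> simp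
      exact Nat.dvd_of_mul_dvd_mul_left two_pos h2n
  refine ⟨toPSL (Z : SLn 2 F), ?_, ?_, hxo ▸ hnodd, fun k hk hko => ?_⟩
  · show toPSL (H56.semiSL g (RingEquiv.refl F) (Z : SLn 2 F)) = toPSL (Z : SLn 2 F)
    refine congrArg toPSL (Subtype.ext ?_)
    show H56.smat (H56.semiSL g (RingEquiv.refl F) (Z : SLn 2 F)) = ((Z : SLn 2 F) : M2)
    rw [H56.smat_semiSL, show (H56.smat (Z : SLn 2 F)).map (RingEquiv.refl F) =
      ((Z : SLn 2 F) : M2) from by ext i j; rfl]
    obtain ⟨γ, δ, hZf⟩ := hform _ Z.2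
    have hcomm : g' * ((Z : SLn 2 F) : M2) = ((Z : SLn 2 F) : M2) * g' := by
      rw [hZf, mul_add, add_mul, Matrix.mul_smul, Matrix.mul_smul, Matrix.smul_mul, Matrix.smul_mul,
        mul_one, one_mul]
    rw [← hg', hcomm, mul_assoc, hginv, mul_one]
  · rw [← map_inv, ← map_mul, ← map_mul, ← map_inv]
    refine congrArg toPSL (Subtype.ext ?_)
    obtain ⟨γ, δ, hZf⟩ := hform _ Z.2
    have hAA : (A : M2) * ((A⁻¹ : SLn 2 F) : M2) = 1 := by
      rw [← Matrix.SpecialLinearGroup.coe_mul, mul_inv_cancel, Matrix.SpecialLinearGroup.coe_one]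
    rw [SL_inv_eq (Z : SLn 2 F), Matrix.SpecialLinearGroup.coe_mul, Matrix.SpecialLinearGroup.coe_mul,
      hZf, trace_smul_add_smul, Matrix.trace_fin_two g', htr, mul_zero, add_zero, mul_add,
      Matrix.mul_smul, Matrix.mul_smul, mul_one, hanti, add_mul, Matrix.smul_mul, Matrix.smul_mul,
      Matrix.neg_mul, mul_assoc g', hAA, mul_one]
    module
  · -- elements centralising `A`
    obtain ⟨K', rfl⟩ := H86.PSLSizes.exists_lift k
    set D := Subgroup.centralizer ({A} : Set (SLn 2 F))
    have hKK : K' * K' ∈ D := by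
      refine Subgroup.mem_centralizer_singleton_iff.2 ?_
      have e : toPSL (K' * A) = toPSL (A * K') :=
        ((map_mul _ _ _).trans hk.eq).trans (map_mul _ _ _).symm
      rcases (toPSL_two_eq_iff _ _).1 e with e' | e'
      · rw [mul_assoc, e', ← mul_assoc, e', mul_assoc]
      · rw [mul_assoc, e', mul_neg, ← mul_assoc, e', neg_mul, neg_neg, mul_assoc]
    obtain ⟨m, hm⟩ := hko
    have hkd : orderOf (toPSL K') ∣ Nat.card D := by
      have hpow : toPSL ((K' * K') ^ (m + 1)) = toPSL K' := by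
        refine (map_pow _ _ _).trans ((congrArg (fun z => z ^ (m + 1)) (map_mul _ _ _)).trans ?_)
        rw [← sq, ← pow_mul, show 2 * (m + 1) = orderOf (toPSL K') + 1 by omega,
          pow_succ, pow_orderOf_eq_one, one_mul]
      rw [← hpow]
      exact (orderOf_map_dvd _ _).trans (Subgroup.orderOf_dvd_natCard D (D.pow_mem hKK _))
    have hA4 : 4 ∣ Nat.card D := by
      have hAo : orderOf A = 4 := by
        have hsqA : A * A = -1 := Subtype.ext (by
          rw [Matrix.SpecialLinearGroup.coe_mul, SL_sq_eq, hAt, zero_smul, zero_sub,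
            Matrix.SpecialLinearGroup.coe_neg, Matrix.SpecialLinearGroup.coe_one])
        refine orderOf_eq_prime_pow (p := 2) (n := 1) ?_ ?_
        · rw [pow_one, sq, hsqA]; exact hneg1
        · rw [show 2 ^ (1 + 1) = 2 + 2 by norm_num, pow_add, sq, hsqA]; simp
      rw [← hAo]
      exact Subgroup.orderOf_dvd_natCard D (Subgroup.mem_centralizer_singleton_iff.2 rfl)
    have hA4' : (A : M2).trace ^ 2 ≠ 4 := by
      rw [hAt]
      intro hh
      exact h2 (mul_self_eq_zero.1 (show (2 : F) * 2 = 0 by linear_combination -hh))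
    have hcardD : Nat.card D = Fintype.card F - 1 ∨ Nat.card D = Fintype.card F + 1 :=
      card_centralizer_cases hA4'
    have hne : Nat.card D ≠ Nat.card C := fun h => hnot4 (h ▸ hA4)
    obtain ⟨t, ht⟩ := hA4
    have hkodd : Odd (orderOf (toPSL K')) := ⟨m, hm⟩
    have hkt : orderOf (toPSL K') ∣ t := by
      have hcop : (orderOf (toPSL K')).Coprime 4 :=
        Nat.Coprime.pow_right 2 (Nat.coprime_two_right.2 hkodd)
      exact hcop.dvd_of_dvd_mul_left (ht ▸ hkd)
    have hdist : Nat.card D + 2 = Nat.card C ∨ Nat.card C + 2 = Nat.card D := by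
      have := Fintype.one_lt_card (α := F)
      rcases hcardC with h | h <;> rcases hcardD with h' | h' <;> omega
    rw [hxo]
    refine ⟨lt_of_le_of_lt (Nat.le_of_dvd (by have := Nat.card_pos (α := ↥D); omega) hkt) (by
      rcases hcardC with h | h <;> rcases hcardD with h' | h' <;> omega), ?_⟩
    have hd2 : (orderOf (toPSL K')).gcd n ∣ 2 := by
      have h1 : (orderOf (toPSL K')).gcd n ∣ Nat.card D := (Nat.gcd_dvd_left _ _).trans hkd
      have h2' : (orderOf (toPSL K')).gcd n ∣ Nat.card C :=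
        (Nat.gcd_dvd_right _ _).trans (hn ▸ dvd_mul_left n 2)
      rcases hdist with h | h
      · rw [← h] at h2'; exact (Nat.dvd_add_right h1).1 h2'
      · rw [← h] at h1; exact (Nat.dvd_add_right h2').1 h1
    rcases (Nat.dvd_prime Nat.prime_two).1 hd2 with h | h
    · exact h
    · have := h ▸ Nat.gcd_dvd_right (orderOf (toPSL K')) n
      obtain ⟨j, hj⟩ := this
      obtain ⟨i, hi⟩ := hnodd
      omega

end Field

section Over

variable {Y : Type u} [Group Y] [Finite Y] {K : Subgroup Y} [K.Normal]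
  {F : Type} [Field F] [Fintype F] (e : ↥K ≃* PSLn 2 F)
  (h : SylowDType Y) (hodd : Odd (Fintype.card F)) (h3 : 3 < Fintype.card F)
  (hC : centralizer (K : Set Y) = ⊥)

include e h hodd h3 hC

/-- An outer involution `b` commuting with an involution `a` of `K` centralises an element of odd
order inverted by `a`, of order larger than and prime to that of every odd element of `C_K(a)`. -/
theorem exists_torus_of_outer {a b : Y} (ha : a ∈ K) (hao : orderOf a = 2) (hb : b ∉ K)
    (hbo : orderOf b = 2) (hab : Commute a b) :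
    ∃ x ∈ K, Odd (orderOf x) ∧ Commute b x ∧ a * x * a⁻¹ = x⁻¹ ∧
      ∀ k ∈ K, Commute k a → Odd (orderOf k) →
        orderOf k < orderOf x ∧ (orderOf k).Coprime (orderOf x) := by
  have hbb : b * b = 1 := by rw [← sq, ← hbo, pow_orderOf_eq_one]
  have haa : a * a = 1 := by rw [← sq, ← hao, pow_orderOf_eq_one]
  have ha1 : a ≠ 1 := fun hh => by rw [hh, orderOf_one] at hao; omega
  obtain ⟨g, hg⟩ := H4.GW.exists_lin e (y := b)
    (MonoidHom.mem_ker.2 (H4.GW.fieldPart_involution e h hodd hC hbb))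
  have hg2 : linAut g * linAut g = (1 : MulAut (PSLn 2 F)) := by rw [← hg, ← map_mul, hbb, map_one]
  have hg1 : linAut g ≠ (1 : MulAut (PSLn 2 F)) := fun h1 => hb (by
    have : b = 1 := H4.GW.actHom_injective hC e ((hg.trans h1).trans (map_one _).symm)
    rw [this]; exact one_mem K)
  have hns : ¬ IsSquare ((Matrix.GeneralLinearGroup.det g : Fˣ) : F) := fun hs => by
    obtain ⟨c, hc⟩ := H5.EvenCyclic.exists_sq_iff.1 hs
    exact hb (H4.GW.mem_of_det_sq e hC hg hc)
  obtain ⟨A, hA⟩ := H86.PSLSizes.exists_lift (e ⟨a, ha⟩)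
  have hA1 : toPSL A ≠ 1 := fun hh =>
    ha1 (congrArg Subtype.val (e.injective ((hA.symm.trans hh).trans (map_one e).symm)))
  have hA2 : toPSL A * toPSL A = 1 := by
    rw [hA, ← map_mul, show (⟨a, ha⟩ : K) * ⟨a, ha⟩ = 1 from Subtype.ext haa, map_one]
  have hgA : linAut g (toPSL A) = toPSL A := by
    rw [hA, ← hg, H4.GW.actHom_apply, e.symm_apply_apply]
    congr 1
    refine Subtype.ext ?_
    rw [MulAut.conjNormal_apply, hab.symm.eq, mul_inv_cancel_right]
  obtain ⟨x, hx, hax, hxo, hk⟩ := exists_outer_torus_psl hodd h3 hg1 hg2 hns hA1 hA2 hgA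
  have hsub : ∀ z : PSLn 2 F, orderOf ((e.symm z : ↥K) : Y) = orderOf z := fun z => by
    rw [Subgroup.orderOf_coe, MulEquiv.orderOf_eq]
  refine ⟨e.symm x, SetLike.coe_mem _, (hsub x).symm ▸ hxo, ?_, ?_, fun k hkK hka hko => ?_⟩
  · have h1 : e (MulAut.conjNormal b (e.symm x)) = x := by rw [← H4.GW.actHom_apply, hg, hx]
    have h2 := congrArg (fun z => ((e.symm z : K) : Y)) h1
    simp only [MulEquiv.symm_apply_apply, MulAut.conjNormal_apply] at h2
    exact mul_inv_eq_iff_eq_mul.1 h2
  · have h2 := congrArg (fun z => ((e.symm z : K) : Y)) hax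
    simpa only [hA, map_mul, map_inv, MulEquiv.symm_apply_apply, Subgroup.coe_mul, Subgroup.coe_inv]
      using h2
  · have hko' : orderOf (e ⟨k, hkK⟩) = orderOf k := by
      rw [MulEquiv.orderOf_eq, ← Subgroup.orderOf_coe]
    obtain ⟨h1, h2⟩ := hk (e ⟨k, hkK⟩) (hA.symm ▸
      Commute.map (show Commute (⟨k, hkK⟩ : K) ⟨a, ha⟩ from Subtype.ext hka.eq) e) (hko'.symm ▸ hko)
    rw [hko'] at h1 h2
    exact ⟨(hsub x).symm ▸ h1, (hsub x).symm ▸ h2⟩

end Over

end Cfsg.Agent.H91.GW
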