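import Cfsg.Agent.H82.GW.Setting
import Cfsg.Agent.H61.GW.OneSide
import Cfsg.Agent.H36.GW.Layer
import Cfsg.Agent.H35.GW.Kill

/-!
# GW programme, P3: general facts about overgroups of `C(t)`
-/

set_option autoImplicit false
set_option linter.unusedSectionVars false
set_option linter.style.haveILetI false

namespace Cfsg.Agent.H91.GW

open Subgroup Cfsg.Agent Cfsg.Agent.GW
open Cfsg.Agent.H39 (DGen)

universe u

variable {G : Type u} [Group G] [Finite G]

/-- An element of odd order inverted by another element of odd order is trivial. -/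
theorem eq_one_of_inverted_odd {v y : G} (hv : Odd (orderOf v)) (hy : Odd (orderOf y))
    (h : y * v * y⁻¹ = v⁻¹) : v = 1 := by
  have h2 : y ^ 2 * v * (y ^ 2)⁻¹ = v := by
    rw [sq, show y * y * v * (y * y)⁻¹ = y * (y * v * y⁻¹) * y⁻¹ by group, h,
      show y * v⁻¹ * y⁻¹ = (y * v * y⁻¹)⁻¹ by group, h, inv_inv]
  obtain ⟨m, hm⟩ := exists_pow_eq_self_of_coprime (x := y) (n := 2) (Nat.coprime_two_left.2 hy)
  have hc : Commute (y ^ 2) v := mul_inv_eq_iff_eq_mul.1 h2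
  have h3 : Commute y v := hm ▸ hc.pow_left m
  have h4 : v * v = 1 := by
    have e : v = v⁻¹ := by rw [← h, h3.eq, mul_inv_cancel_right]
    nth_rw 2 [e]
    exact mul_inv_cancel v
  have h5 : orderOf v ∣ 2 := orderOf_dvd_of_pow_eq_one (by rw [sq, h4])
  exact orderOf_eq_one_iff.1 (Nat.eq_one_of_dvd_coprimes (Nat.coprime_two_left.2 hv) h5 dvd_rfl)

theorem odd_orderOf_of_mem {K : Subgroup G} (hK : Odd (Nat.card K)) {x : G} (hx : x ∈ K) :
    Odd (orderOf x) := by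
  refine hK.of_dvd_nat ?_
  rw [← Subgroup.orderOf_mk x hx]
  exact orderOf_dvd_natCard _

/-- An inverted element of prime order of a group of odd order with an involution divides the index
of the centraliser of the involution. -/
theorem dvd_of_inverted {P : Subgroup G} (hP : Odd (Nat.card P)) {t : G}
    (hnorm : ∀ x ∈ P, t * x * t⁻¹ ∈ P) {p : ℕ} [Fact p.Prime] {v : G} (hvP : v ∈ P)
    (hvp : orderOf v = p) (hinv : t * v * t⁻¹ = v⁻¹) :
    p ∣ ((P ⊓ centralizer ({t} : Set G)).subgroupOf P).index := by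
  set C := (P ⊓ centralizer ({t} : Set G)).subgroupOf P with hC
  by_contra hp
  set V : Subgroup P := zpowers ⟨v, hvP⟩ with hV
  have hVp : IsPGroup p V := IsPGroup.of_card (n := 1) (by
    rw [hV, Nat.card_zpowers, Subgroup.orderOf_mk, hvp, pow_one])
  obtain ⟨a, ha⟩ := hVp.nonempty_fixed_point_of_prime_not_dvd_card (P ⧸ C)
    (by rwa [← Subgroup.index_eq_card])
  obtain ⟨x, rfl⟩ := QuotientGroup.mk_surjective a
  have h1 : ((⟨v, hvP⟩ * x : P) : P ⧸ C) = (x : P ⧸ C) := ha ⟨⟨v, hvP⟩, mem_zpowers _⟩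
  have h2 : (x : G)⁻¹ * v * x ∈ centralizer ({t} : Set G) := by
    have h3 := QuotientGroup.eq.1 h1.symm
    rw [← mul_assoc, hC, mem_subgroupOf] at h3
    simpa using h3.2
  have h4 : t * ((x : G)⁻¹ * v * x) * t⁻¹ = (x : G)⁻¹ * v * x := by
    rw [← mem_centralizer_singleton_iff.1 h2, mul_inv_cancel_right]
  set y := (x : G) * (t * x * t⁻¹)⁻¹ with hy
  have hyP : y ∈ P := mul_mem x.2 (inv_mem (hnorm _ x.2))
  have h5 : y⁻¹ * v * y = v⁻¹ := by
    rw [← hinv, hy]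
    calc (x * (t * x * t⁻¹)⁻¹ : G)⁻¹ * v * (x * (t * x * t⁻¹)⁻¹)
        = t * x * t⁻¹ * ((x : G)⁻¹ * v * x) * (t * x * t⁻¹)⁻¹ := by group
      _ = t * x * t⁻¹ * (t * ((x : G)⁻¹ * v * x) * t⁻¹) * (t * x * t⁻¹)⁻¹ := by rw [h4]
      _ = t * v * t⁻¹ := by group
  have h6 := eq_one_of_inverted_odd (odd_orderOf_of_mem hP hvP)
    (odd_orderOf_of_mem hP (inv_mem hyP)) (show y⁻¹ * v * y⁻¹⁻¹ = v⁻¹ by rw [inv_inv, h5])
  rw [h6, orderOf_one] at hvp
  exact (Fact.out : p.Prime).one_lt.ne hvp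

variable {S : Sylow 2 G} {l : ℕ} {c s : G}

/-- The other pair of generators. -/
theorem dGen_swap (hD : DGen (S : Subgroup G) l c s) : DGen (S : Subgroup G) l c (c * s) where
  lpos := hD.lpos
  mem_c := hD.mem_c
  mem_s := mul_mem hD.mem_c hD.mem_s
  oc := hD.oc
  os := by simpa using hD.orderOf_out 1
  inv := by
    rw [show c * s * c * (c * s)⁻¹ = c * (s * c * s⁻¹) * c⁻¹ by group, hD.inv]
    group
  out := fun h => by
    have := hD.out_not_mem 1
    rw [zpow_one] at this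
    exact this h
  cases := fun g hg => by
    rcases hD.cases g hg with h | h
    · exact Or.inl h
    · refine Or.inr ?_
      rw [show g * (c * s) = g * s * (s⁻¹ * c * s) by group,
        show s⁻¹ * c * s = s * c * s⁻¹ by
          rw [inv_eq_of_mul_eq_one_right (H39.mul_self_of_orderOf_eq_two hD.os)], hD.inv]
      exact mul_mem h (inv_mem (mem_zpowers c))

theorem cfg_swap (h : Cfg S l c s) : Cfg S l c (c * s) :=
  ⟨h.simple, h.nonab, dGen_swap h.gen, h.proper, h.small⟩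

theorem no_index_two (h : Cfg S l c s) (H : Subgroup G) : H.index ≠ 2 := by
  intro hH
  haveI := h.simple
  haveI : Fact (Nat.Prime 2) := ⟨Nat.prime_two⟩
  haveI := normal_of_index_eq_two hH
  rcases h.simple.eq_bot_or_eq_top_of_normal H inferInstance with e | e
  · rw [e, index_bot] at hH
    haveI : IsCyclic G := isCyclic_of_prime_card (p := 2) hH
    exact h.nonab IsCyclic.isMulCommutative
  · rw [e, index_top] at hH
    exact absurd hH (by decide)

theorem one_class (h : Cfg S l c s) (a b : G) (ha : orderOf a = 2) (hb : orderOf b = 2) :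
    IsConj a b :=
  (h.gen.isConj_z_of_no_index_two (no_index_two h) ha).symm.trans
    (h.gen.isConj_z_of_no_index_two (no_index_two h) hb)

theorem two_dvd_l (hD : DGen (S : Subgroup G) l c s) (hl : 2 ≤ l) : ∃ m, l = 2 * m := by
  haveI : Fact (Nat.Prime 2) := ⟨Nat.prime_two⟩
  obtain ⟨k, hk⟩ := IsPGroup.iff_orderOf.1 S.isPGroup' ⟨c, hD.mem_c⟩
  rw [Subgroup.orderOf_mk, hD.oc] at hk
  match k, hk with
  | 0, hk => omega
  | 1, hk => omega
  | k + 2, hk => exact ⟨2 ^ k, by rw [pow_succ, pow_succ] at hk; omega⟩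

theorem zpow_reflection_cases (hD : DGen (S : Subgroup G) l c s) (i : ℤ) :
    ∃ y ∈ zpowers c, y * (c ^ i * s) * y⁻¹ = s ∨ y * (c ^ i * s) * y⁻¹ = c * s := by
  rcases Int.even_or_odd' i with ⟨j, rfl | rfl⟩
  · refine ⟨c ^ (-j), zpow_mem (mem_zpowers c) _, Or.inl ?_⟩
    rw [hD.conj_reflection]
    simp
  · refine ⟨c ^ (-j), zpow_mem (mem_zpowers c) _, Or.inr ?_⟩
    rw [hD.conj_reflection, show 2 * j + 1 + 2 * -j = 1 by ring, zpow_one]

/-- An involution of `X` is conjugate within `X` to `t`, `s` or `cs`. -/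
theorem involution_cases (hD : DGen (S : Subgroup G) l c s) {X : Subgroup G}
    (hSX : (S : Subgroup G) ≤ X) {a : G} (ha : a ∈ X) (ha2 : orderOf a = 2) :
    ∃ x ∈ X, x * a * x⁻¹ = c ^ l ∨ x * a * x⁻¹ = s ∨ x * a * x⁻¹ = c * s := by
  haveI : Fact (Nat.Prime 2) := ⟨Nat.prime_two⟩
  have hp : IsPGroup 2 (zpowers (⟨a, ha⟩ : X)) :=
    IsPGroup.of_card (n := 1) (by rw [Nat.card_zpowers, Subgroup.orderOf_mk, ha2, pow_one])
  obtain ⟨x, hx⟩ := H39.exists_conj_le_sylow hp (S.subtype hSX)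
  have hxS : (x : G) * a * (x : G)⁻¹ ∈ (S : Subgroup G) := hx _ (mem_zpowers _)
  have hxo : orderOf ((x : G) * a * (x : G)⁻¹) = 2 := by rw [H39.orderOf_conj, ha2]
  by_cases hc : (x : G) * a * (x : G)⁻¹ ∈ zpowers c
  · rcases hD.sq_one_cases hc (H39.mul_self_of_orderOf_eq_two hxo) with e | e
    · exact absurd e (H39.ne_one_of_orderOf_eq_two hxo)
    · exact ⟨x, x.2, Or.inl e⟩
  · obtain ⟨i, hi⟩ := hD.out_form hxS hc
    obtain ⟨y, hy, hy'⟩ := zpow_reflection_cases hD i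
    refine ⟨y * x, mul_mem (hSX (hD.zpowers_le hy)) x.2, Or.inr ?_⟩
    rwa [show y * x * a * (y * x)⁻¹ = y * ((x : G) * a * (x : G)⁻¹) * y⁻¹ by group, hi]

/-- With `s` and `cs` fused to `t` there is one class. -/
theorem eq_top_of_fused (h : Cfg S l c s) (hl : 2 ≤ l) {X : Subgroup G}
    (hCX : centralizer ({c ^ l} : Set G) ≤ X) (h1 : ∃ x ∈ X, x * s * x⁻¹ = c ^ l)
    (h2 : ∃ x ∈ X, x * (c * s) * x⁻¹ = c ^ l) : X = ⊤ := by
  haveI := h.simple
  have hSX : (S : Subgroup G) ≤ X := (H61.GW.sylow_le_centralizer h.gen).trans hCX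
  have key : ∀ a : X, orderOf a = 2 → ∃ x : X, x * a * x⁻¹ = ⟨c ^ l, hSX h.gen.z_mem⟩ := by
    intro a ha
    obtain ⟨x, hx, hxa⟩ := involution_cases h.gen hSX a.2 (by rwa [Subgroup.orderOf_coe])
    rcases hxa with e | e | e
    · exact ⟨⟨x, hx⟩, Subtype.ext e⟩
    · obtain ⟨y, hy, hys⟩ := h1
      refine ⟨⟨y, hy⟩ * ⟨x, hx⟩, Subtype.ext ?_⟩
      show y * x * a * (y * x)⁻¹ = c ^ l
      rw [show y * x * (a : G) * (y * x)⁻¹ = y * (x * a * x⁻¹) * y⁻¹ by group, e, hys]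
    · obtain ⟨y, hy, hys⟩ := h2
      refine ⟨⟨y, hy⟩ * ⟨x, hx⟩, Subtype.ext ?_⟩
      show y * x * a * (y * x)⁻¹ = c ^ l
      rw [show y * x * (a : G) * (y * x)⁻¹ = y * (x * a * x⁻¹) * y⁻¹ by group, e, hys]
  exact H35.GW.eq_top_of_one_class h.gen hl (one_class h) X hCX fun a b ha hb =>
    (isConj_iff.2 (key a ha)).trans (isConj_iff.2 (key b hb)).symm

/-- If `s` is fused to `t` then `cs` is separated from both. -/
theorem separates_of_fused (h : Cfg S l c s) (hl : 2 ≤ l) {M : Subgroup G} (hM : M ≠ ⊤)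
    (hCM : centralizer ({c ^ l} : Set G) ≤ M) (h1 : ∃ x ∈ M, x * s * x⁻¹ = c ^ l) :
    Separates M (c ^ l) (c * s) s := by
  intro x hx
  refine ⟨fun e => hM (eq_top_of_fused h hl hCM h1 ⟨x, hx, e⟩), fun e => ?_⟩
  obtain ⟨y, hy, hys⟩ := h1
  refine hM (eq_top_of_fused h hl hCM ⟨y, hy, hys⟩ ⟨y * x, mul_mem hy hx, ?_⟩)
  rw [show y * x * (c * s) * (y * x)⁻¹ = y * (x * (c * s) * x⁻¹) * y⁻¹ by group, e, hys]

/-- A fusing element moves `s` to `t`. -/
theorem exists_of_fuses {g : G} {a b : G} (hg : Fuses g a b) {M : Subgroup G} (hgM : g ∈ M) :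
    ∃ x ∈ M, x * b * x⁻¹ = a :=
  ⟨g⁻¹, inv_mem hgM, by rw [← hg.1]; group⟩

end Cfsg.Agent.H91.GW
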