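import Cfsg.Agent.H91.GW.OverBasic

/-!
# GW programme, P3: orders of the fixed points on the core
-/

set_option autoImplicit false
set_option linter.unusedSectionVars false

namespace Cfsg.Agent.H91.GW

open Subgroup Cfsg.Agent

universe u v

variable {X : Type u} [Group X] [Finite X] {A : Type v} [Group A]

/-- The order of a subgroup from a homomorphism. -/
theorem card_eq_ker_mul_map (f : X →* A) (K : Subgroup X) :
    Nat.card K = Nat.card ↥(K ⊓ f.ker) * Nat.card ↥(K.map f) := by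
  set f' : K →* A := f.comp K.subtype with hf'
  have hker : Nat.card f'.ker = Nat.card ↥(K ⊓ f.ker) := by
    rw [← Subgroup.card_map_of_injective K.subtype_injective]
    congr 1
    congr 1
    ext x
    constructor
    · rintro ⟨y, hy, rfl⟩
      exact ⟨y.2, hy⟩
    · rintro ⟨hx, hx'⟩
      exact ⟨⟨x, hx⟩, hx', rfl⟩
  have hran : f'.range = K.map f := by rw [hf', MonoidHom.range_comp, Subgroup.range_subtype]
  rw [← f'.ker.card_mul_index, hker, Subgroup.index_ker, hran]

variable (f : X →* A) {O : Subgroup X} (hO : Odd (Nat.card O))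
include hO

/-- The fixed points of an involution cover the image. -/
theorem exists_fixed_lift {u : X} (huu : u * u = 1) (hu : ∀ x ∈ O, u * x * u⁻¹ ∈ O) (hfu : f u = 1)
    {x : X} (hx : x ∈ O) : ∃ y ∈ O, Commute y u ∧ f y = f x := by
  have hui : u⁻¹ = u := inv_eq_of_mul_eq_one_right huu
  set w := x⁻¹ * (u * x * u⁻¹) with hw
  have hwO : w ∈ O := mul_mem (inv_mem hx) (hu x hx)
  have hfw : f w = 1 := by
    rw [hw, map_mul, map_inv, map_mul, map_mul, map_inv, hfu, one_mul, inv_one, mul_one,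
      inv_mul_cancel]
  have hinv : u * w * u⁻¹ = w⁻¹ := by
    rw [hw, hui, show u * (x⁻¹ * (u * x * u)) * u = u * x⁻¹ * u * x * (u * u) by group, huu, mul_one,
      mul_inv_rev, inv_inv, mul_inv_rev, mul_inv_rev, hui]
    group
  obtain ⟨m, hm⟩ := odd_orderOf_of_mem hO hwO
  set v := w ^ (m + 1) with hv
  have hvv : v * v = w := by
    rw [hv, ← pow_add, show m + 1 + (m + 1) = orderOf w + 1 by omega, pow_succ, pow_orderOf_eq_one,
      one_mul]
  refine ⟨x * v, mul_mem hx (pow_mem hwO _), ?_, by rw [map_mul, hv, map_pow, hfw, one_pow, mul_one]⟩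
  have h1 : u * (x * v) * u⁻¹ = x * v := by
    have e : u * v * u⁻¹ = v⁻¹ := by rw [hv, ← conj_pow, hinv, inv_pow]
    calc u * (x * v) * u⁻¹ = u * x * u⁻¹ * (u * v * u⁻¹) := by group
      _ = x * w * v⁻¹ := by rw [e, hw]; group
      _ = x * (v * v) * v⁻¹ := by rw [hvv]
      _ = x * v := by group
  exact (mul_inv_eq_iff_eq_mul.1 h1).symm

/-- The image of the fixed points is the image. -/
theorem map_fixed_eq {u : X} (huu : u * u = 1) (hu : ∀ x ∈ O, u * x * u⁻¹ ∈ O) (hfu : f u = 1) :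
    (O ⊓ centralizer ({u} : Set X)).map f = O.map f := by
  refine le_antisymm (map_mono inf_le_left) ?_
  rintro _ ⟨x, hx, rfl⟩
  obtain ⟨y, hy, hyu, hfy⟩ := exists_fixed_lift f hO huu hu hfu hx
  exact ⟨y, ⟨hy, mem_centralizer_singleton_iff.2 hyu.eq⟩, hfy⟩

variable {s b : X} {W : Subgroup X}
  (hss : s * s = 1) (hbb : b * b = 1) (hsO : ∀ x ∈ O, s * x * s⁻¹ ∈ O)
  (hbO : ∀ x ∈ O, b * x * b⁻¹ ∈ O) (hfs : f s = 1) (hfb : f b = 1)
  (hW : W ≤ O ⊓ centralizer ({s} : Set X)) (hWf : W ≤ f.ker)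
  (hker : ∀ x ∈ O, Commute x b → f x = 1 → x ∈ W)
include hss hbb hsO hbO hfs hfb hW hWf hker

/-- The fixed points of `b` are not more than those of `s`; equality forces `W ≤ C(b)`. -/
theorem card_fixed_lt (hne : ¬ W ≤ centralizer ({b} : Set X)) :
    Nat.card ↥(O ⊓ centralizer ({b} : Set X)) < Nat.card ↥(O ⊓ centralizer ({s} : Set X)) := by
  rw [card_eq_ker_mul_map f, card_eq_ker_mul_map f (O ⊓ centralizer ({s} : Set X)),
    map_fixed_eq f hO hss hsO hfs, map_fixed_eq f hO hbb hbO hfb]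
  haveI : Finite ↥(O.map f) := Finite.of_surjective _ (f.subgroupMap_surjective O)
  refine Nat.mul_lt_mul_of_pos_right ?_ Nat.card_pos
  have h1 : O ⊓ centralizer ({b} : Set X) ⊓ f.ker ≤ W ⊓ centralizer ({b} : Set X) := fun x hx =>
    ⟨hker x hx.1.1 (mem_centralizer_singleton_iff.1 hx.1.2) hx.2, hx.1.2⟩
  refine lt_of_le_of_lt (Subgroup.card_le_of_le h1) (lt_of_lt_of_le ?_
    (Subgroup.card_le_of_le (le_inf hW hWf)))
  refine lt_of_le_of_ne (Subgroup.card_le_of_le inf_le_left) fun e => hne ?_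
  exact inf_eq_left.1 (Subgroup.eq_of_le_of_card_ge inf_le_left e.ge)

/-- If `W ≤ C(b)`, the index of the fixed points of `b` divides the order of the kernel part. -/
theorem index_fixed_mul (hle : W ≤ centralizer ({b} : Set X)) :
    ((O ⊓ centralizer ({b} : Set X)).subgroupOf O).index * Nat.card W = Nat.card ↥(O ⊓ f.ker) := by
  have h1 : O ⊓ centralizer ({b} : Set X) ⊓ f.ker = W :=
    le_antisymm (fun x hx => hker x hx.1.1 (mem_centralizer_singleton_iff.1 hx.1.2) hx.2)
      (le_inf (le_inf (hW.trans inf_le_left) hle) hWf)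
  have h2 := card_eq_ker_mul_map f (O ⊓ centralizer ({b} : Set X))
  rw [h1, map_fixed_eq f hO hbb hbO hfb] at h2
  have h3 := card_eq_ker_mul_map f O
  have h4 := ((O ⊓ centralizer ({b} : Set X)).subgroupOf O).card_mul_index
  rw [Nat.card_congr (subgroupOfEquivOfLe inf_le_left).toEquiv, h2, h3] at h4
  haveI : Finite ↥(O.map f) := Finite.of_surjective _ (f.subgroupMap_surjective O)
  refine Nat.eq_of_mul_eq_mul_right (Nat.card_pos (α := ↥(O.map f))) ?_
  rw [mul_comm _ (Nat.card W), mul_right_comm, h4]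

end Cfsg.Agent.H91.GW
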