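import Cfsg.Agent.H91.GW.OverBasic
import Cfsg.Agent.Components.BenderUnique

/-!
# GW programme, P3: overgroups of `C(t)` without components
-/

set_option autoImplicit false
set_option linter.unusedSectionVars false
set_option linter.style.haveILetI false

namespace Cfsg.Agent.H91.GW

open Subgroup Cfsg.Agent Cfsg.Agent.GW
open Cfsg.Agent.H39 (DGen)

universe u

variable {G : Type u} [Group G] [Finite G] {S : Sylow 2 G} {l : ℕ} {c s : G}

theorem mem_coreAt_iff (hD : DGen (S : Subgroup G) l c s) {x : G} :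
    x ∈ coreAt (c ^ l) ↔ Odd (orderOf x) ∧ Commute x (c ^ l) :=
  ⟨fun hx => ⟨odd_orderOf_of_mem (H61.GW.odd_coreAt _) hx,
    mem_centralizer_singleton_iff.1 (H61.GW.coreAt_le _ hx)⟩,
   fun hx => H61.GW.mem_coreAt_of_odd hD (mem_centralizer_singleton_iff.2 hx.2.eq) hx.1⟩

theorem mem_pairCore_iff (hD : DGen (S : Subgroup G) l c s) {x u : G} :
    x ∈ pairCore (c ^ l) u ↔ Odd (orderOf x) ∧ Commute x (c ^ l) ∧ Commute x u := by
  show x ∈ coreAt (c ^ l) ∧ x ∈ centralizer ({u} : Set G) ↔ _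
  rw [mem_coreAt_iff hD, mem_centralizer_singleton_iff, and_assoc]
  exact Iff.rfl

/-- A subgroup whose elements of odd order centralise `t` is inside `C(t)`. -/
theorem eq_centralizer_of_odd (hD : DGen (S : Subgroup G) l c s) {M : Subgroup G}
    (hCM : centralizer ({c ^ l} : Set G) ≤ M)
    (h : ∀ x ∈ M, Odd (orderOf x) → Commute x (c ^ l)) : M = centralizer ({c ^ l} : Set G) := by
  refine le_antisymm ?_ hCM
  rw [← Subgroup.relIndex_eq_one]
  set C := (centralizer ({c ^ l} : Set G)).subgroupOf M with hC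
  show C.index = 1
  by_contra hne
  obtain ⟨p, hp, hpdvd⟩ := Nat.exists_prime_and_dvd hne
  haveI := Fact.mk hp
  haveI : Fact (Nat.Prime 2) := ⟨Nat.prime_two⟩
  have hSC := H61.GW.sylow_le_centralizer hD
  obtain ⟨P⟩ : Nonempty (Sylow p ↥M) := inferInstance
  have hp2 : p ≠ 2 := by
    rintro rfl
    refine (S.subtype (hSC.trans hCM)).not_dvd_index (hpdvd.trans (Subgroup.index_dvd_of_le ?_))
    rw [Sylow.coe_subtype]
    exact fun x hx => hSC hx
  refine P.not_dvd_index (hpdvd.trans (Subgroup.index_dvd_of_le fun x hx => ?_))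
  obtain ⟨k, hk⟩ := IsPGroup.iff_orderOf.1 P.isPGroup' ⟨x, hx⟩
  rw [Subgroup.orderOf_mk, ← Subgroup.orderOf_coe] at hk
  exact mem_centralizer_singleton_iff.2 (h x x.2 (hk ▸ (hp.odd_of_ne_two hp2).pow)).eq

/-- A normal four group containing `t`. -/
theorem exists_four (hD : DGen (S : Subgroup G) l c s) {M : Subgroup G}
    (hCM : centralizer ({c ^ l} : Set G) ≤ M) (hne : M ≠ centralizer ({c ^ l} : Set G))
    (hE : Components.layerIn M = ⊥) (hfit : ∀ x ∈ Components.fitIn M, Commute x (c ^ l)) :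
    ∃ U : Subgroup G, IsKleinFour U ∧ c ^ l ∈ U ∧ M ≤ normalizer (U : Set G) := by
  haveI : Fact (Nat.Prime 2) := ⟨Nat.prime_two⟩
  have htM : c ^ l ∈ M := hCM (mem_centralizer_singleton_iff.2 rfl)
  set t : ↥M := ⟨c ^ l, htM⟩ with ht
  have hE' : Cfsg.layer ↥M = ⊥ := (Subgroup.map_eq_bot_iff_of_injective _ M.subtype_injective).1 hE
  have hgF : Cfsg.generalizedFittingSubgroup ↥M = Cfsg.fittingSubgroup ↥M := by
    rw [Components.genFitting_eq_sup, hE', bot_sup_eq]
  have htF : t ∈ Cfsg.fittingSubgroup ↥M := by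
    rw [← hgF]
    refine Components.centralizer_genFitting_le ?_
    rw [hgF]
    intro x hx
    exact Subtype.ext (hfit _ ⟨x, hx, rfl⟩).eq
  have htp : t ∈ Cfsg.pCore 2 ↥M := by
    refine Components.le_pCore_of_le_fitting (P := zpowers t) (IsPGroup.of_card (n := 1) ?_)
      (zpowers_le.2 htF) (mem_zpowers t)
    rw [Nat.card_zpowers, ht, Subgroup.orderOf_mk, hD.z_order, pow_one]
  by_cases hK : IsKleinFour ↥(Cfsg.pCore 2 ↥M)
  · refine ⟨(Cfsg.pCore 2 ↥M).map M.subtype, ?_, ⟨t, htp, rfl⟩,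
      Components.le_normalizer_map_subtype _⟩
    have ev := equivMapOfInjective (Cfsg.pCore 2 ↥M) M.subtype M.subtype_injective
    exact ⟨(Nat.card_congr ev.symm.toEquiv).trans hK.card_four,
      (Monoid.exponent_eq_of_mulEquiv ev.symm).trans hK.exponent_two⟩
  · refine absurd (eq_centralizer_of_odd hD hCM fun x hx ho => ?_) hne
    have h1 := H63.GW.mem_centralizer_of_odd ((H36.GW.sylowDType_of_dGen hD).subgroup M)
      Cores.pCore_isPGroup hK (g := ⟨x, hx⟩) (by rw [normalizer_eq_top]; exact mem_top _)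
      (Nat.coprime_two_right.2 (by rwa [Subgroup.orderOf_mk]))
    exact (congrArg Subtype.val (mem_centralizer_iff.1 h1 t htp)).symm

/-- An element of odd order permutes a normal four group cyclically if it moves `t`. -/
theorem exists_cycle (hD : DGen (S : Subgroup G) l c s) {M : Subgroup G}
    (hCM : centralizer ({c ^ l} : Set G) ≤ M) (hne : M ≠ centralizer ({c ^ l} : Set G))
    (hE : Components.layerIn M = ⊥) (hfit : ∀ x ∈ Components.fitIn M, Commute x (c ^ l)) :
    ∃ g ∈ M, ∃ b : G, orderOf b = 2 ∧ b ≠ c ^ l ∧ Commute (c ^ l) b ∧ Fuses g (c ^ l) b ∧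
      M ≤ normalizer ((closure ({c ^ l, b} : Set G) : Subgroup G) : Set G) := by
  obtain ⟨U, hU, htU, hMU⟩ := exists_four hD hCM hne hE hfit
  obtain ⟨x, hxM, hxo, hxt⟩ : ∃ x ∈ M, Odd (orderOf x) ∧ ¬ Commute x (c ^ l) := by
    by_contra! hall
    exact hne (eq_centralizer_of_odd hD hCM hall)
  set b := x * c ^ l * x⁻¹ with hb
  have hbU : b ∈ U := (mem_normalizer_iff.1 (hMU hxM) _).1 htU
  have hbo : orderOf b = 2 := by rw [hb, H39.orderOf_conj, hD.z_order]
  have hbt : b ≠ c ^ l := fun e => hxt (mul_inv_eq_iff_eq_mul.1 e)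
  have hc : Commute (c ^ l) b := H39.commute_of_klein hU htU hbU
  obtain ⟨T, hT, hTm⟩ := H39.klein_mk hD.z_order hbo (Ne.symm hbt) hc.eq
  have hTU : T = U := H39.klein_eq_of_le hT hU fun v hv => by
    rcases (hTm v).mp hv with rfl | rfl | rfl | rfl
    exacts [one_mem _, htU, hbU, mul_mem htU hbU]
  have hbb : x * b * x⁻¹ = c ^ l * b := by
    rcases (hTm _).1 (hTU.symm ▸ (mem_normalizer_iff.1 (hMU hxM) _).1 hbU) with e | e | e | e
    · exact absurd (conj_eq_one_iff.1 e) (H39.ne_one_of_orderOf_eq_two hbo)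
    · exfalso
      obtain ⟨m, hm⟩ := exists_pow_eq_self_of_coprime (x := x) (n := 2) (Nat.coprime_two_left.2 hxo)
      refine hxt (hm ▸ Commute.pow_left ?_ m)
      refine mul_inv_eq_iff_eq_mul.1 ?_
      rw [sq, show x * x * c ^ l * (x * x)⁻¹ = x * (x * c ^ l * x⁻¹) * x⁻¹ by group]
      exact e
    · exact absurd (mul_left_cancel (mul_right_cancel (e.trans hb)) : b = c ^ l) hbt
    · exact e
  refine ⟨x, hxM, b, hbo, hbt, hc, ⟨rfl, hbb⟩, ?_⟩
  rwa [show (closure ({c ^ l, b} : Set G) : Subgroup G) = U from le_antisymm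
    ((closure_le _).2 (by rintro v (rfl | rfl); exacts [htU, hbU])) (hTU ▸ fun v hv => by
      have h1 : c ^ l ∈ closure ({c ^ l, b} : Set G) := subset_closure (Or.inl rfl)
      have h2 : b ∈ closure ({c ^ l, b} : Set G) := subset_closure (Or.inr rfl)
      rcases (hTm v).mp hv with rfl | rfl | rfl | rfl
      exacts [one_mem _, h1, h2, mul_mem h1 h2])]

/-- Moving the fused pair into the Sylow subgroup. -/
theorem exists_side (hD : DGen (S : Subgroup G) l c s) {g b : G} (hbo : orderOf b = 2)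
    (hbt : b ≠ c ^ l) (hc : Commute (c ^ l) b) (hg : Fuses g (c ^ l) b) :
    ∃ x ∈ centralizer ({c ^ l} : Set G),
      (x * b * x⁻¹ = s ∧ Fuses (x * g * x⁻¹) (c ^ l) s) ∨
      (x * b * x⁻¹ = c * s ∧ Fuses (x * g * x⁻¹) (c ^ l) (c * s)) := by
  obtain ⟨x, hx, hxb⟩ := involution_cases hD (H61.GW.sylow_le_centralizer hD)
    (mem_centralizer_singleton_iff.2 hc.eq.symm) hbo
  have hxt : x * c ^ l * x⁻¹ = c ^ l := by
    rw [mem_centralizer_singleton_iff.1 hx, mul_inv_cancel_right]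
  have key : Fuses (x * g * x⁻¹) (c ^ l) (x * b * x⁻¹) := by
    refine ⟨?_, ?_⟩
    · calc x * g * x⁻¹ * c ^ l * (x * g * x⁻¹)⁻¹
          = x * g * x⁻¹ * (x * c ^ l * x⁻¹) * (x * g * x⁻¹)⁻¹ := by rw [hxt]
        _ = x * (g * c ^ l * g⁻¹) * x⁻¹ := by group
        _ = x * b * x⁻¹ := by rw [hg.1]
    · calc x * g * x⁻¹ * (x * b * x⁻¹) * (x * g * x⁻¹)⁻¹ = x * (g * b * g⁻¹) * x⁻¹ := by group
        _ = x * c ^ l * x⁻¹ * (x * b * x⁻¹) := by rw [hg.2]; group
        _ = c ^ l * (x * b * x⁻¹) := by rw [hxt]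
  rcases hxb with e | e | e
  · exact absurd (mul_left_cancel (mul_right_cancel (e.trans hxt.symm))) hbt
  · exact ⟨x, hx, Or.inl ⟨e, e ▸ key⟩⟩
  · exact ⟨x, hx, Or.inr ⟨e, e ▸ key⟩⟩

theorem coreIn_le (M : Subgroup G) : coreIn M ≤ M := map_subtype_le _

theorem odd_coreIn (M : Subgroup G) : Odd (Nat.card (coreIn M)) := by
  rw [coreIn, card_map_of_injective M.subtype_injective]
  exact Cores.odd_card_oddCore

/-- The two-class subgroup with a normal four group. -/
theorem twoClass_four (h : Cfg S l c s) (hl : 2 ≤ l) (hO : coreAt (c ^ l) ≠ ⊥) {M : Subgroup G}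
    (hM : IsCoatom M) (hCM : centralizer ({c ^ l} : Set G) ≤ M) {g : G} (hgM : g ∈ M)
    (hg : Fuses g (c ^ l) s)
    (hN : M ≤ normalizer ((closure ({c ^ l, s} : Set G) : Subgroup G) : Set G)) :
    TwoClass M l c s := by
  haveI := h.simple
  have hD := h.gen
  set t := c ^ l with ht
  have hts : Commute t s := (hD.z_central hD.mem_s).symm
  have hst : s ≠ t := fun e => hD.out (e ▸ Subgroup.pow_mem _ (mem_zpowers c) l)
  obtain ⟨T, hT, hTm⟩ := H39.klein_mk hD.z_order hD.os (Ne.symm hst) hts.eq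
  have hcl : (closure ({t, s} : Set G) : Subgroup G) = T := le_antisymm
    ((closure_le _).2 (by
      rintro v (rfl | rfl)
      exacts [(hTm _).2 (Or.inr (Or.inl rfl)), (hTm _).2 (Or.inr (Or.inr (Or.inl rfl)))]))
    (fun v hv => by
      have h1 : t ∈ closure ({t, s} : Set G) := subset_closure (Or.inl rfl)
      have h2 : s ∈ closure ({t, s} : Set G) := subset_closure (Or.inr rfl)
      rcases (hTm v).mp hv with rfl | rfl | rfl | rfl
      exacts [one_mem _, h1, h2, mul_mem h1 h2])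
  rw [hcl] at hN
  have htT : t ∈ T := (hTm _).2 (Or.inr (Or.inl rfl))
  have hsT : s ∈ T := (hTm _).2 (Or.inr (Or.inr (Or.inl rfl)))
  have hTM : T ≤ M := fun v hv => by
    have hsM : s ∈ M := hCM (mem_centralizer_singleton_iff.2 hts.eq.symm)
    rcases (hTm v).mp hv with rfl | rfl | rfl | rfl
    exacts [one_mem _, hCM (mem_centralizer_singleton_iff.2 rfl), hsM,
      mul_mem (hCM (mem_centralizer_singleton_iff.2 rfl)) hsM]
  have hW : ∀ w ∈ coreIn M, ∀ v ∈ T, Commute w v := fun w hw v hv => by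
    have hcop : (Nat.card (coreIn M)).Coprime (Nat.card T) := by
      rw [hT.card_four, show (4 : ℕ) = 2 ^ 2 by rfl]
      exact (Nat.coprime_two_right.2 (odd_coreIn M)).pow_right 2
    have h1 : w * v * w⁻¹ * v⁻¹ ∈ coreIn M ⊓ T := by
      refine ⟨?_, T.mul_mem ((mem_normalizer_iff.1 (hN (coreIn_le M hw)) v).1 hv) (T.inv_mem hv)⟩
      rw [show w * v * w⁻¹ * v⁻¹ = w * (v * w⁻¹ * v⁻¹) by group]
      exact mul_mem hw
        ((mem_normalizer_iff.1 (Components.le_normalizer_map_subtype _ (hTM hv)) w⁻¹).1 ((coreIn M).inv_mem hw))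
    rw [disjoint_iff.1 (Subgroup.disjoint_of_coprime_natCard hcop), mem_bot,
      ← commutatorElement_def] at h1
    exact commutatorElement_eq_one_iff_commute.1 h1
  have hW_le : coreIn M ≤ pairCore t s := fun w hw =>
    (mem_pairCore_iff hD).2 ⟨odd_orderOf_of_mem (odd_coreIn M) hw, hW w hw t htT, hW w hw s hsT⟩
  have hOs : coreAt t ≤ centralizer ({s} : Set G) := by
    intro x hx
    obtain ⟨ho, hxt⟩ := (mem_coreAt_iff hD).1 hx
    have hxM : x ∈ M := hCM (H61.GW.coreAt_le _ hx)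
    rw [mem_centralizer_singleton_iff]
    rcases (hTm _).1 ((mem_normalizer_iff.1 (hN hxM) _).1 hsT) with e | e | e | e
    · exact absurd (conj_eq_one_iff.1 e) (H39.ne_one_of_orderOf_eq_two hD.os)
    · exact absurd (mul_left_cancel (mul_right_cancel
        (e.trans (show t = x * t * x⁻¹ by rw [hxt.eq, mul_inv_cancel_right])))) hst
    · exact mul_inv_eq_iff_eq_mul.1 e
    · obtain ⟨m, hm⟩ := exists_pow_eq_self_of_coprime (x := x) (n := 2) (Nat.coprime_two_left.2 ho)
      refine (hm ▸ Commute.pow_left ?_ m : Commute x s).eq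
      refine mul_inv_eq_iff_eq_mul.1 ?_
      rw [sq, show x * x * s * (x * x)⁻¹ = x * (x * s * x⁻¹) * x⁻¹ by group, e,
        show x * (t * s) * x⁻¹ = x * t * x⁻¹ * (x * s * x⁻¹) by group, e, hxt.eq,
        mul_inv_cancel_right, ← mul_assoc, H39.mul_self_of_orderOf_eq_two hD.z_order, one_mul]
  have hD_eq : pairCore t s = coreAt t := inf_eq_left.2 hOs
  -- `O(C(t))` is normal in `M`
  have hOn : ∀ m ∈ M, ∀ x ∈ coreAt t, m * x * m⁻¹ ∈ coreAt t := by
    intro m hm x hx
    obtain ⟨ho, hxt⟩ := (mem_coreAt_iff hD).1 hx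
    refine (mem_coreAt_iff hD).2 ⟨by rwa [H39.orderOf_conj], ?_⟩
    have hxs : Commute x s := mem_centralizer_singleton_iff.1 (hOs hx)
    have hall : ∀ v ∈ T, Commute x v := fun v hv => by
      rcases (hTm v).mp hv with rfl | rfl | rfl | rfl
      exacts [Commute.one_right _, hxt, hxs, hxt.mul_right hxs]
    have hv : m⁻¹ * t * m ∈ T := by
      simpa using (mem_normalizer_iff.1 (hN (inv_mem hm)) t).1 htT
    have h1 := (Commute.conj_iff m).2 (hall _ hv)
    rwa [show m * (m⁻¹ * t * m) * m⁻¹ = t by group] at h1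
  have hcore : coreIn M = coreAt t := by
    refine le_antisymm (fun w hw => (hW_le hw).1) ?_
    have hOM : coreAt t ≤ M := (H61.GW.coreAt_le t).trans hCM
    rw [← map_subgroupOf_eq_of_le hOM]
    refine map_mono ?_
    haveI : ((coreAt t).subgroupOf M).Normal := ⟨fun x hx m => hOn m m.2 x hx⟩
    refine Cores.le_oddCore ?_
    rw [Nat.card_congr (subgroupOfEquivOfLe hOM).toEquiv]
    exact H61.GW.odd_coreAt t
  have hsep := separates_of_fused h hl hM.1 hCM (exists_of_fuses hg hgM)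
  refine ⟨hM.1, hM, hCM, hl, ⟨g, hgM, hg, Or.inr ⟨hcore, by rw [hcl]; exact hN⟩⟩, hsep, hW_le, ?_⟩
  rw [hD_eq]
  refine lt_of_le_of_ne (Subgroup.card_le_of_le inf_le_left) fun e => ?_
  have hD' : pairCore t (c * s) = coreAt t := Subgroup.eq_of_le_of_card_ge inf_le_left e.ge
  -- the element fusing the other four group normalises `O(C(t))`
  obtain ⟨g', hg'1, hg'2⟩ := H36.GW.exists_fuses (dGen_swap hD) (no_index_two h)
  have hg'N : g' ∈ normalizer (coreAt t : Set G) := mem_normalizer_fintype fun x hx => by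
    obtain ⟨ho, hxt, hxcs⟩ := (mem_pairCore_iff hD).1 (hD'.ge hx)
    refine (mem_coreAt_iff hD).2 ⟨by rwa [H39.orderOf_conj], ?_⟩
    have h1 : Commute (g' * x * g'⁻¹) (c * s) := hg'1 ▸ (Commute.conj_iff g').2 hxt
    have h2 : Commute (g' * x * g'⁻¹) (t * (c * s)) := hg'2 ▸ (Commute.conj_iff g').2 hxcs
    have h3 := h2.mul_right h1.inv_right
    rwa [mul_inv_cancel_right] at h3
  have hMN : M ≤ normalizer (coreAt t : Set G) := fun m hm =>
    mem_normalizer_fintype fun x hx => hOn m hm x hx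
  rcases eq_or_lt_of_le hMN with e' | e'
  · exact (hsep g'⁻¹ (inv_mem (e' ▸ hg'N))).1 (by rw [← hg'1]; group)
  · rcases h.simple.eq_bot_or_eq_top_of_normal _ (normalizer_eq_top_iff.1 (hM.2 _ e')) with e2 | e2
    · exact hO e2
    · refine Nat.not_even_iff_odd.2 (odd_orderOf_of_mem (H61.GW.odd_coreAt t)
        (e2 ▸ mem_top (c ^ l) : c ^ l ∈ coreAt t)) ?_
      rw [hD.z_order]; exact even_two

end Cfsg.Agent.H91.GW
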