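import Cfsg.Agent.H62.GW.PSLFacts

/-!
# GW programme, P3: the torus of an outer involution of `PGL(2,q)`

Outside `PSL(2,q)` an involution of `PGL(2,q)` fixes an element of `PSL(2,q)` whose square is not one.
-/

set_option autoImplicit false
set_option linter.unusedSectionVars false
set_option linter.style.haveILetI false

namespace Cfsg.Agent.H91.GW

open Subgroup Matrix Cfsg.Agent Cfsg.Agent.Linear Cfsg.Agent.H55
open Cfsg.Agent.H56 (PSLn SLn toP)
open Cfsg.Agent.H5.EvenCyclic (linAut)
open Cfsg.Agent.H63.GW (SylowDType)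
open Cfsg.Agent.H4.GW (actHom)

universe u

section Field

variable {F : Type} [Field F] [Fintype F]

/-- Points with two nonzero coordinates on the conic `α² - c β² = 1`. -/
theorem exists_conic (h2 : (2 : F) ≠ 0) {c : F} (hc : c ≠ 0)
    (h : 6 ≤ Fintype.card F ∨ (1 < Fintype.card F ∧ ∀ t : F, c * (t * t) ≠ 1 ∧ c * (t * t) ≠ -1)) :
    ∃ α β : F, α ≠ 0 ∧ β ≠ 0 ∧ α * α - c * (β * β) = 1 := by
  classical
  obtain ⟨t, ht0, ht1, ht2⟩ : ∃ t : F, t ≠ 0 ∧ c * (t * t) ≠ 1 ∧ c * (t * t) ≠ -1 := by
    rcases h with h | ⟨h1, h⟩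
    · by_contra! hno
      have hroot : ∀ a : F, (Finset.univ.filter fun t : F => c * (t * t) = a).card ≤ 2 := by
        intro a
        rcases (Finset.univ.filter fun t : F => c * (t * t) = a).eq_empty_or_nonempty with he | ⟨r, hr⟩
        · simp [he]
        · refine (Finset.card_le_card (t := {r, -r}) fun t ht => ?_).trans Finset.card_le_two
          rw [Finset.mem_filter] at ht hr
          have := mul_left_cancel₀ hc (ht.2.trans hr.2.symm)
          rcases mul_self_eq_mul_self_iff.1 this with e | e <;> simp [e]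
      have hsub : (Finset.univ : Finset F) ⊆ ({0} : Finset F) ∪
          ((Finset.univ.filter fun t : F => c * (t * t) = 1) ∪
            (Finset.univ.filter fun t : F => c * (t * t) = -1)) := by
        intro t _
        by_cases ht : t = 0
        · simp [ht]
        · by_cases h1 : c * (t * t) = 1
          · simp [h1]
          · simp [hno t ht h1]
      have h3 := Finset.card_le_card hsub
      have h4 := Finset.card_union_le ({0} : Finset F)
        ((Finset.univ.filter fun t : F => c * (t * t) = 1) ∪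
          (Finset.univ.filter fun t : F => c * (t * t) = -1))
      have h5 := Finset.card_union_le (Finset.univ.filter fun t : F => c * (t * t) = 1)
        (Finset.univ.filter fun t : F => c * (t * t) = -1)
      have h6 := hroot 1
      have h7 := hroot (-1)
      rw [Finset.card_singleton] at h4
      rw [Finset.card_univ] at h3
      omega
    · obtain ⟨t, ht⟩ := Fintype.exists_ne_of_one_lt_card h1 (0 : F)
      exact ⟨t, ht, h t⟩
  have hd : 1 - c * (t * t) ≠ 0 := sub_ne_zero.2 (Ne.symm ht1)
  refine ⟨(1 + c * (t * t)) / (1 - c * (t * t)), 2 * t / (1 - c * (t * t)),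
    div_ne_zero (fun e => ht2 (by linear_combination e)) hd,
    div_ne_zero (mul_ne_zero h2 ht0) hd, ?_⟩
  rw [div_mul_div_comm, div_mul_div_comm, mul_div_assoc', div_sub_div_same,
    div_eq_one_iff_eq (mul_ne_zero hd hd)]
  ring

theorem trace_eq_zero_of_linAut {g : GL (Fin 2) F} (hg1 : linAut g ≠ (1 : MulAut (PSLn 2 F)))
    (hg2 : linAut g * linAut g = (1 : MulAut (PSLn 2 F))) :
    ∃ c : F, c = -(Matrix.GeneralLinearGroup.det g : F) ∧
      (g : Matrix (Fin 2) (Fin 2) F) * (g : Matrix (Fin 2) (Fin 2) F) = c • 1 := by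
  set g' : Matrix (Fin 2) (Fin 2) F := (g : Matrix (Fin 2) (Fin 2) F) with hg'
  rw [← map_mul] at hg2
  have hc : g * g ∈ Subgroup.center (GL (Fin 2) F) := by
    rw [← H56.pglToAut_ker (n := 2) le_rfl]; exact hg2
  rw [Matrix.GeneralLinearGroup.center_eq_range_scalar] at hc
  obtain ⟨d, hd⟩ := hc
  have hd' : g' * g' = (d : F) • 1 := by
    rw [hg', ← Units.val_mul, ← hd, Matrix.GeneralLinearGroup.coe_scalar]
    ext i j
    fin_cases i <;> fin_cases j <;> simp
  refine ⟨_, rfl, ?_⟩
  have hdet : (Matrix.GeneralLinearGroup.det g : F) = g' 0 0 * g' 1 1 - g' 0 1 * g' 1 0 := by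
    rw [Matrix.GeneralLinearGroup.val_det_apply, Matrix.det_fin_two]
  have e01 := congrFun (congrFun hd' 0) 1
  have e10 := congrFun (congrFun hd' 1) 0
  have e00 := congrFun (congrFun hd' 0) 0
  have e11 := congrFun (congrFun hd' 1) 1
  simp [Matrix.mul_apply, Fin.sum_univ_two] at e00 e01 e10 e11
  have htr : g' 0 0 + g' 1 1 = 0 := by
    by_contra hne
    have h01 : g' 0 1 = 0 := (mul_eq_zero.1
      (show g' 0 1 * (g' 0 0 + g' 1 1) = 0 by linear_combination e01)).resolve_right hne
    have h10 : g' 1 0 = 0 := (mul_eq_zero.1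
      (show g' 1 0 * (g' 0 0 + g' 1 1) = 0 by linear_combination e10)).resolve_right hne
    rw [h01, h10] at e00 e11
    have h00 : g' 0 0 = g' 1 1 := sub_eq_zero.1 ((mul_eq_zero.1
      (show (g' 0 0 - g' 1 1) * (g' 0 0 + g' 1 1) = 0 by linear_combination e00 - e11)).resolve_right hne)
    have hne0 : g' 0 0 ≠ 0 := by
      intro h0
      exact hne (by rw [← h00, h0, add_zero])
    refine hg1 ?_
    rw [show g = Matrix.GeneralLinearGroup.scalar (Fin 2) (Units.mk0 (g' 0 0) hne0) from ?_,
      H5.EvenCyclic.linAut_scalar]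
    apply Units.ext
    rw [Matrix.GeneralLinearGroup.coe_scalar]
    ext i j
    fin_cases i <;> fin_cases j <;> simp [hg']
    · exact h01
    · exact h10
    · exact h00.symm
  have h11 : g' 1 1 = -g' 0 0 := by linear_combination htr
  ext i j
  fin_cases i <;> fin_cases j <;>
    simp [Matrix.mul_apply, Fin.sum_univ_two, hdet, h11] <;> ring

/-- The fixed element. -/
theorem exists_fixed_psl (hodd : Odd (Fintype.card F)) (h3 : 3 < Fintype.card F) {g : GL (Fin 2) F}
    (hg1 : linAut g ≠ (1 : MulAut (PSLn 2 F)))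
    (hg2 : linAut g * linAut g = (1 : MulAut (PSLn 2 F)))
    (hns : ¬ IsSquare (Matrix.GeneralLinearGroup.det g : F)) :
    ∃ x : PSLn 2 F, linAut g x = x ∧ x * x ≠ 1 := by
  have h2 := H4.GW.two_ne hodd
  obtain ⟨c, hcdet, hsq⟩ := trace_eq_zero_of_linAut hg1 hg2
  have hd0 : (Matrix.GeneralLinearGroup.det g : F) ≠ 0 := Units.ne_zero _
  have hc0 : c ≠ 0 := by rw [hcdet]; exact neg_ne_zero.2 hd0
  obtain ⟨α, β, hα, hβ, hab⟩ := exists_conic h2 hc0 (by
    by_cases h5 : Fintype.card F = 5
    · refine Or.inr ⟨by omega, fun t => ?_⟩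
      obtain ⟨w, hw⟩ : IsSquare (-1 : F) := FiniteField.isSquare_neg_one_iff.2 (by omega)
      have key : ∀ a : F, a ≠ 0 → IsSquare (-a) → c * (t * t) ≠ a := by
        intro a ha0 ha e
        have ht : t ≠ 0 := by
          rintro rfl
          rw [zero_mul, mul_zero] at e
          exact ha0 e.symm
        refine hns ?_
        obtain ⟨r, hr⟩ := ha
        refine ⟨r / t, ?_⟩
        rw [hcdet] at e
        field_simp
        linear_combination -e + hr
      exact ⟨key 1 one_ne_zero ⟨w, hw⟩, key (-1) (neg_ne_zero.2 one_ne_zero) ⟨1, by simp⟩⟩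
    · obtain ⟨m, hm⟩ := hodd
      exact Or.inl (by omega))
  set g' : Matrix (Fin 2) (Fin 2) F := (g : Matrix (Fin 2) (Fin 2) F) with hg'
  have hdetg : g'.det = -c := by
    rw [hg', ← Matrix.GeneralLinearGroup.val_det_apply, hcdet, neg_neg]
  -- the trace of `g` is zero
  have htr : g' 0 0 + g' 1 1 = 0 := by
    rw [Matrix.det_fin_two] at hdetg
    have e00 := congrFun (congrFun hsq 0) 0
    have e11 := congrFun (congrFun hsq 1) 1
    simp [Matrix.mul_apply, Fin.sum_univ_two] at e00 e11
    have h0 : (g' 0 0 + g' 1 1) * (g' 0 0 + g' 1 1) = 0 := by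
      linear_combination e00 + e11 + 2 * hdetg
    exact mul_self_eq_zero.1 h0
  set A : Matrix (Fin 2) (Fin 2) F := α • 1 + β • g' with hA
  have hAdet : A.det = 1 := by
    rw [hA, Matrix.det_fin_two]
    rw [Matrix.det_fin_two] at hdetg
    simp
    linear_combination hab + β * β * hdetg + α * β * htr
  let s : SLn 2 F := ⟨A, hAdet⟩
  refine ⟨toP s, ?_, ?_⟩
  · rw [H5.EvenCyclic.linAut_apply, H56.semiAut_toP]
    refine congrArg toP (Subtype.ext ?_)
    show H56.smat (H56.semiSL g (RingEquiv.refl F) s) = A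
    rw [H56.smat_semiSL, show (H56.smat s).map (RingEquiv.refl F) = A from by ext i j; rfl]
    have hcomm : g' * A = A * g' := by
      rw [hA, mul_add, add_mul, Matrix.mul_smul, Matrix.mul_smul, Matrix.smul_mul, Matrix.smul_mul,
        mul_one, one_mul]
    rw [← hg', hcomm, mul_assoc, hg', ← Units.val_mul, mul_inv_cancel, Units.val_one, mul_one]
  · intro h
    rw [← map_mul, ← map_one (toP (n := 2) (F := F))] at h
    obtain ⟨k, -, hk⟩ := H56.toP_eq_iff.1 h
    have hk' : (1 : Matrix (Fin 2) (Fin 2) F) = k • (A * A) := hk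
    have hAA : A * A = (α * α + c * (β * β)) • 1 + (2 * α * β) • g' := by
      rw [hA]
      ext i j
      have e := congrFun (congrFun hsq i) j
      fin_cases i <;> fin_cases j <;>
        simp [Matrix.mul_apply, Fin.sum_univ_two] at e ⊢ <;> linear_combination β * β * e
    rw [hAA] at hk'
    have hk0 : k ≠ 0 := by
      rintro rfl
      rw [zero_smul] at hk'
      exact one_ne_zero hk'
    have h01 : g' 0 1 = 0 := by
      have e := congrFun (congrFun hk' 0) 1
      simpa [hk0, hα, hβ, h2] using e.symm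
    have h10 : g' 1 0 = 0 := by
      have e := congrFun (congrFun hk' 1) 0
      simpa [hk0, hα, hβ, h2] using e.symm
    have hdiag : g' 0 0 = g' 1 1 := by
      have e0 := congrFun (congrFun hk' 0) 0
      have e1 := congrFun (congrFun hk' 1) 1
      simp at e0 e1
      have : k * (2 * α * β) * (g' 0 0 - g' 1 1) = 0 := by linear_combination e1 - e0
      exact sub_eq_zero.1 ((mul_eq_zero.1 this).resolve_left
        (mul_ne_zero hk0 (mul_ne_zero (mul_ne_zero h2 hα) hβ)))
    have h00 : g' 0 0 = 0 := by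
      rw [← hdiag, ← two_mul] at htr
      exact (mul_eq_zero.1 htr).resolve_left h2
    rw [Matrix.det_fin_two, h00, h01, zero_mul, zero_mul, sub_zero] at hdetg
    exact neg_ne_zero.2 hc0 hdetg.symm

end Field

section Over

variable {Y : Type u} [Group Y] [Finite Y] {K : Subgroup Y} [K.Normal]
  {F : Type} [Field F] [Fintype F] (e : ↥K ≃* PSLn 2 F)
  (h : SylowDType Y) (hodd : Odd (Fintype.card F)) (h3 : 3 < Fintype.card F)
  (hC : centralizer (K : Set Y) = ⊥)

include e h hodd h3 hC

/-- An outer involution centralises an element of `K` that is not an involution. -/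
theorem exists_fixed_of_outer {b : Y} (hbb : b * b = 1) (hb : b ∉ K) :
    ∃ x ∈ K, x * x ≠ 1 ∧ Commute b x := by
  obtain ⟨g, hg⟩ := H4.GW.exists_lin e (y := b)
    (MonoidHom.mem_ker.2 (H4.GW.fieldPart_involution e h hodd hC hbb))
  have hg2 : linAut g * linAut g = (1 : MulAut (PSLn 2 F)) := by rw [← hg, ← map_mul, hbb, map_one]
  have hg1 : linAut g ≠ (1 : MulAut (PSLn 2 F)) := fun h1 => hb (by
    have : b = 1 := H4.GW.actHom_injective hC e ((hg.trans h1).trans (map_one _).symm)
    rw [this]; exact one_mem K)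
  have hns : ¬ IsSquare ((Matrix.GeneralLinearGroup.det g : Fˣ) : F) := fun hs => by
    obtain ⟨c, hc⟩ := H5.EvenCyclic.exists_sq_iff.1 hs
    exact hb (H4.GW.mem_of_det_sq e hC hg hc)
  obtain ⟨x, hx, hxx⟩ := exists_fixed_psl hodd h3 hg1 hg2 hns
  refine ⟨e.symm x, SetLike.coe_mem _, fun hh => hxx ?_, ?_⟩
  · have h1 : e.symm x * e.symm x = 1 := Subtype.ext hh
    rw [← map_mul] at h1
    rw [← e.apply_symm_apply (x * x), h1, map_one]
  · have h1 : e (MulAut.conjNormal b (e.symm x)) = x := by rw [← H4.GW.actHom_apply, hg, hx]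
    have h2 := congrArg (fun z => ((e.symm z : K) : Y)) h1
    simp only [MulEquiv.symm_apply_apply, MulAut.conjNormal_apply] at h2
    exact mul_inv_eq_iff_eq_mul.1 h2

end Over

end Cfsg.Agent.H91.GW
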