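import Cfsg.Agent.H91.GW.OverCount
import Cfsg.Agent.H91.GW.OverFour
import Cfsg.Agent.H91.GW.OverTorus
import Cfsg.Agent.H62.GW.PSLFacts

/-!
# GW programme, P3: overgroups of `C(t)` with a component
-/

set_option autoImplicit false
set_option linter.unusedSectionVars false
set_option linter.style.haveILetI false

namespace Cfsg.Agent.H91.GW

open Subgroup Cfsg.Agent Cfsg.Agent.GW
open Cfsg.Agent.H39 (DGen)

universe u

section Group

variable {Y : Type u} [Group Y] [Finite Y]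

/-- Two involutions of the layer are conjugate. -/
theorem layer_isConj (h : H63.GW.SylowDType Y) (hE : Cfsg.layer Y ≠ ⊥) {a b : Y}
    (ha : a ∈ Cfsg.layer Y) (hb : b ∈ Cfsg.layer Y) (ha2 : orderOf a = 2) (hb2 : orderOf b = 2) :
    IsConj a b := by
  obtain ⟨T, m, x, y, hD⟩ := H36.GW.exists_dGen_layer h hE
  have h1 : IsConj (⟨a, ha⟩ : ↥(Cfsg.layer Y)) ⟨b, hb⟩ :=
    (hD.isConj_z_of_no_index_two H36.GW.not_index_two_layer (v := (⟨a, ha⟩ : ↥(Cfsg.layer Y)))
      (by rwa [Subgroup.orderOf_mk])).symm.trans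
      (hD.isConj_z_of_no_index_two H36.GW.not_index_two_layer (v := (⟨b, hb⟩ : ↥(Cfsg.layer Y)))
        (by rwa [Subgroup.orderOf_mk]))
  exact MonoidHom.map_isConj (Cfsg.layer Y).subtype h1

/-- Involutions of `E(Y)·O(Y)` lie in `E(Y)`. -/
theorem mem_layer_of_mem_map {y : Y} (hy : y * y = 1)
    (hm : QuotientGroup.mk' (Cfsg.oddCore Y) y ∈
      (Cfsg.layer Y).map (QuotientGroup.mk' (Cfsg.oddCore Y))) : y ∈ Cfsg.layer Y := by
  haveI : (Cfsg.layer Y).Normal := Components.layer_normal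
  obtain ⟨a, ha, hay⟩ := hm
  have hw : a⁻¹ * y ∈ Cfsg.oddCore Y := QuotientGroup.eq.1 hay
  rw [← QuotientGroup.eq_one_iff]
  refine orderOf_eq_one_iff.1 (Nat.eq_one_of_dvd_coprimes (Nat.coprime_two_left.2
    (odd_orderOf_of_mem Cores.odd_card_oddCore hw))
    (orderOf_dvd_of_pow_eq_one (by rw [sq, ← QuotientGroup.mk_mul, hy, QuotientGroup.mk_one])) ?_)
  refine dvd_trans (dvd_of_eq ?_) (orderOf_map_dvd (QuotientGroup.mk' (Cfsg.layer Y)) (a⁻¹ * y))
  rw [map_mul, map_inv, show (QuotientGroup.mk' (Cfsg.layer Y)) a = 1 from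
    (QuotientGroup.eq_one_iff a).2 ha, inv_one, one_mul]
  rfl

/-- The image of the layer modulo the core is the simple group of the shape theorem. -/
theorem layer_shape (hY : H63.GW.SylowDType Y) (hP : H63.GW.PerfectHyp (Y ⧸ Cfsg.oddCore Y))
    (hE : Cfsg.layer Y ≠ ⊥) :
    ∃ K : Subgroup (Y ⧸ Cfsg.oddCore Y), K.Normal ∧ H63.GW.SimpleShape ↥K ∧
      centralizer (K : Set (Y ⧸ Cfsg.oddCore Y)) = ⊥ ∧
      (Cfsg.layer Y).map (QuotientGroup.mk' (Cfsg.oddCore Y)) = K := by
  classical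
  haveI : Fact (Nat.Prime 2) := ⟨Nat.prime_two⟩
  haveI := H36.GW.layer_isPerfect (Y := Y)
  haveI : (Cfsg.layer Y).Normal := Components.layer_normal
  haveI : Nontrivial ↥(Cfsg.layer Y) := (Subgroup.nontrivial_iff_ne_bot _).2 hE
  haveI : Group.IsSolvable ↥(Cfsg.oddCore Y) := S0205.result Cores.odd_card_oddCore
  set mk := QuotientGroup.mk' (Cfsg.oddCore Y) with hmk
  have hO : Cfsg.oddCore (Y ⧸ Cfsg.oddCore Y) = ⊥ := Cores.pPrimeCore_quotient_pPrimeCore (p := 2)
  have hsh := hY.quotient (Cfsg.oddCore Y) Cores.odd_card_oddCore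
  have hns : ¬ Group.IsSolvable (Y ⧸ Cfsg.oddCore Y) := by
    intro hs
    haveI := hs
    haveI : Group.IsSolvable Y :=
      Group.isSolvable_of_ker_le_range (Cfsg.oddCore Y).subtype mk (by simp [hmk])
    exact Group.IsPerfect.not_isSolvable ↥(Cfsg.layer Y) inferInstance
  obtain ⟨L, hLn, hL, hLC⟩ := H63.GW.nonsolvable_shape hsh hO hP hns
  haveI := hLn
  haveI := hL.isSimpleGroup
  set E := (Cfsg.layer Y).map mk with hEdef
  haveI : E.Normal := Subgroup.Normal.map inferInstance _ (QuotientGroup.mk'_surjective _)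
  have hperf : Group.IsPerfect ↥E := ⟨by
    apply Subgroup.map_injective E.subtype_injective
    rw [commutator_def, Subgroup.map_commutator, ← MonoidHom.range_eq_map, Subgroup.range_subtype,
      hEdef, ← Subgroup.map_commutator, Components.layer_perfect]⟩
  have hLE : L ≤ E := by
    rcases hL.isSimpleGroup.eq_bot_or_eq_top_of_normal (E.subgroupOf L) inferInstance with h | h
    · exfalso
      have hd : Disjoint E L := Subgroup.disjoint_def.2 fun {x} hx hx' => by
        have : (⟨x, hx'⟩ : L) ∈ E.subgroupOf L := hx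
        rw [h, mem_bot] at this
        exact congrArg Subtype.val this
      have hc : E ≤ centralizer (L : Set (Y ⧸ Cfsg.oddCore Y)) := fun x hx =>
        mem_centralizer_iff.2 fun y hy =>
          (Subgroup.commute_of_normal_of_disjoint _ _ inferInstance inferInstance hd x y hx hy).symm.eq
      rw [hLC, le_bot_iff, hEdef, Subgroup.map_eq_bot_iff, hmk, QuotientGroup.ker_mk'] at hc
      exact Group.IsPerfect.not_isSolvable ↥(Cfsg.layer Y)
        (Group.isSolvable_of_isSolvable_injective (Subgroup.inclusion_injective hc))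
    · intro x hx
      exact (h ▸ mem_top (⟨x, hx⟩ : L) : (⟨x, hx⟩ : L) ∈ E.subgroupOf L)
  have hC' : centralizer (L.subgroupOf E : Set ↥E) = ⊥ := by
    rw [eq_bot_iff]
    intro x hx
    have : (x : Y ⧸ Cfsg.oddCore Y) ∈ centralizer (L : Set (Y ⧸ Cfsg.oddCore Y)) :=
      mem_centralizer_iff.2 fun y hy =>
        congrArg Subtype.val (mem_centralizer_iff.1 hx ⟨y, hLE hy⟩ hy)
    rw [hLC, mem_bot] at this
    exact mem_bot.2 (Subtype.ext this)
  haveI := hperf
  refine ⟨L, hLn, hL, hLC, le_antisymm ?_ hLE⟩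
  rw [← Subgroup.subgroupOf_eq_top]
  rcases hL with ⟨F, iF, iT, hF, h3, ⟨f⟩⟩ | ⟨⟨f⟩⟩
  · exact H4.GW.psl_eq_top ((Subgroup.subgroupOfEquivOfLe hLE).trans f) hC'
  · exact H4.GW.alt_eq_top_of_perfect hC' ((Subgroup.subgroupOfEquivOfLe hLE).trans f)

end Group

variable {G : Type u} [Group G] [Finite G] {S : Sylow 2 G} {l : ℕ} {c s : G}

/-- In a subgroup over `S` with a layer, `t` lies in the layer when `l ≥ 2`. -/
theorem t_mem_layerIn (hD : DGen (S : Subgroup G) l c s) (hl : 2 ≤ l) {M : Subgroup G}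
    (hSM : (S : Subgroup G) ≤ M) (hE : Components.layerIn M ≠ ⊥) :
    c ^ l ∈ Components.layerIn M := by
  have hn : M ≤ normalizer (Components.layerIn M : Set G) := by
    haveI : (Cfsg.layer ↥M).Normal := Components.layer_normal
    exact Components.le_normalizer_map_subtype _
  have key : ∀ i : ℤ, c ^ i * s ∈ Components.layerIn M → c ^ l ∈ Components.layerIn M := by
    intro i hi
    have h1 := mul_mem ((mem_normalizer_iff.1 (hn (hSM hD.mem_c)) _).1 hi) hi
    have h2 : c * (c ^ i * s) * c⁻¹ = c ^ (i + 2) * s := by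
      have := hD.conj_reflection i 1
      simpa using this
    rw [h2, show c ^ (i + 2) * s * (c ^ i * s) = c ^ (2 : ℤ) * (c ^ i * s * (c ^ i * s)) by
      rw [add_comm i 2, zpow_add]; group, hD.out_mul_self, mul_one] at h1
    obtain ⟨m, rfl⟩ := two_dvd_l hD hl
    rw [pow_mul, show c ^ 2 = c ^ (2 : ℤ) from (zpow_natCast c 2).symm]
    exact pow_mem h1 m
  have hts : Commute (c ^ l) s := (hD.z_central hD.mem_s).symm
  rcases H36.GW.meets_four hD hE (c ^ l) s (hSM hD.z_mem) (hSM hD.mem_s) hD.z_order hD.os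
    (fun e => hD.out (e ▸ Subgroup.pow_mem _ (mem_zpowers c) l)) hts with h | h | h
  · exact h
  · exact key 0 (by simpa using h)
  · exact key (l : ℤ) (by simpa using h)

/-- The two-class subgroup with a layer. -/
theorem twoClass_layer (h : Cfg S l c s) (hl : 2 ≤ l) {M : Subgroup G} (hM : IsCoatom M)
    (hCM : centralizer ({c ^ l} : Set G) ≤ M) (hE : Components.layerIn M ≠ ⊥) {g : G}
    (hgE : g ∈ Components.layerIn M) (hg : Fuses g (c ^ l) s) : TwoClass M l c s := by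
  classical
  haveI := h.simple
  have hD := h.gen
  have hSM : (S : Subgroup G) ≤ M := (H61.GW.sylow_le_centralizer hD).trans hCM
  have htE := t_mem_layerIn hD hl hSM hE
  have hgM : g ∈ M := map_subtype_le _ hgE
  have hsE : s ∈ Components.layerIn M := hg.1 ▸ mul_mem (mul_mem hgE htE) (inv_mem hgE)
  have hcomm := fun x (hx : x ∈ Components.layerIn M) w (hw : w ∈ coreIn M) =>
    H36.GW.commute_core (X := M) x hx w hw
  have hWle : coreIn M ≤ pairCore (c ^ l) s := fun w hw => (mem_pairCore_iff hD).2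
    ⟨odd_orderOf_of_mem (odd_coreIn M) hw, (hcomm _ htE w hw).symm, (hcomm _ hsE w hw).symm⟩
  have hsep := separates_of_fused h hl hM.1 hCM (exists_of_fuses hg hgM)
  refine ⟨hM.1, hM, hCM, hl, ⟨g, hgM, hg, Or.inl fun w hw => hcomm g hgE w hw⟩, hsep, hWle, ?_⟩
  -- inside `M`
  set W := Cfsg.oddCore ↥M with hWdef
  set π := QuotientGroup.mk' W with hπ
  set O := (coreAt (c ^ l)).subgroupOf M with hOdef
  set t' : ↥M := ⟨c ^ l, hSM hD.z_mem⟩ with ht'
  set s' : ↥M := ⟨s, hSM hD.mem_s⟩ with hs'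
  set b' : ↥M := ⟨c * s, hSM (mul_mem hD.mem_c hD.mem_s)⟩ with hb'
  have hE' : Cfsg.layer ↥M ≠ ⊥ := H36.GW.layerIn_ne_bot_iff.1 hE
  have hYd := (H36.GW.sylowDType_of_dGen hD).subgroup M
  have hbar := hYd.quotient W Cores.odd_card_oddCore
  have hP : H63.GW.PerfectHyp (↥M ⧸ W) := by
    refine h.small _ ?_ hbar
    refine (Nat.le_of_dvd Nat.card_pos (Subgroup.card_quotient_dvd_card W)).trans_lt ?_
    exact lt_of_le_of_ne M.card_le_card_group fun e => hM.1 (Subgroup.eq_top_of_card_eq M e)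
  obtain ⟨K, hKn, hK, hKC, hKE⟩ := layer_shape hYd hP hE'
  haveI := hKn
  have hin : ∀ (x : G) (hx : x ∈ M), x ∈ Components.layerIn M → (⟨x, hx⟩ : ↥M) ∈ Cfsg.layer ↥M := by
    intro x hx hxE
    obtain ⟨y, hy, hyx⟩ := hxE
    rwa [show (⟨x, hx⟩ : ↥M) = y from Subtype.ext hyx.symm]
  have ht'E : t' ∈ Cfsg.layer ↥M := hin _ _ htE
  have hs'E : s' ∈ Cfsg.layer ↥M := hin _ _ hsE
  have ho_t : orderOf t' = 2 := by rw [ht', Subgroup.orderOf_mk, hD.z_order]
  have ho_b : orderOf b' = 2 := by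
    rw [hb', Subgroup.orderOf_mk]; simpa using hD.orderOf_out 1
  have hbK : π b' ∉ K := fun hm => by
    have hb'E := mem_layer_of_mem_map (H39.mul_self_of_orderOf_eq_two ho_b) (hKE.symm ▸ hm)
    obtain ⟨x, hx⟩ := isConj_iff.1 (layer_isConj hYd hE' hb'E ht'E ho_b ho_t)
    exact (hsep x x.2).1 (congrArg Subtype.val hx)
  rcases hK with ⟨F, iF, iT, hodd, h3, ⟨e⟩⟩ | ⟨⟨e⟩⟩
  swap
  · exact absurd (H4.GW.alt_shape hbar hKC e ▸ mem_top (π b')) hbK
  set f := (H4.GW.fieldPartHom e).comp π with hf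
  have hb2 : π b' * π b' = 1 := by rw [← map_mul, H39.mul_self_of_orderOf_eq_two ho_b, map_one]
  have ht2 : π t' * π t' = 1 := by rw [← map_mul, H39.mul_self_of_orderOf_eq_two ho_t, map_one]
  have htK : π t' ∈ K := hKE ▸ mem_map_of_mem _ ht'E
  have hinvol : ∀ x : ↥M, orderOf x = 2 → π x ≠ 1 := fun x hx e1 => by
    have := odd_orderOf_of_mem Cores.odd_card_oddCore ((QuotientGroup.eq_one_iff x).1 e1)
    rw [hx] at this
    exact absurd this (by decide)
  have hmul : ∀ x : ↥M ⧸ W, Odd (orderOf x) → x ≠ 1 → x * x ≠ 1 := fun x ho hx hxx => hx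
    (orderOf_eq_one_iff.1 (Nat.eq_one_of_dvd_coprimes (Nat.coprime_two_left.2 ho)
      (orderOf_dvd_of_pow_eq_one (by rw [sq, hxx])) dvd_rfl))
  have hcomb : Commute (π t') (π b') :=
    (show Commute t' b' from Subtype.ext (hD.z_central (mul_mem hD.mem_c hD.mem_s)).symm).map π
  have hOiff : ∀ x : ↥M, x ∈ O ↔ Odd (orderOf x) ∧ Commute (x : G) (c ^ l) := fun x => by
    rw [hOdef, mem_subgroupOf, mem_coreAt_iff hD, Subgroup.orderOf_coe]
  have hOodd : Odd (Nat.card O) := by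
    rw [hOdef, Nat.card_congr (subgroupOfEquivOfLe ((H61.GW.coreAt_le _).trans hCM)).toEquiv]
    exact H61.GW.odd_coreAt _
  have hnormO : ∀ u : ↥M, Commute (u : G) (c ^ l) → ∀ x ∈ O, u * x * u⁻¹ ∈ O := fun u hu x hx =>
    H61.GW.conj_mem_coreAt (mem_centralizer_singleton_iff.2 hu.eq) hx
  have hWO : W ≤ O ⊓ centralizer ({s'} : Set ↥M) := fun w hw => by
    obtain ⟨h1, h2, h3⟩ := (mem_pairCore_iff hD).1 (hWle ⟨w, hw, rfl⟩)
    exact ⟨(hOiff w).2 ⟨by rwa [← Subgroup.orderOf_coe], h2⟩,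
      mem_centralizer_singleton_iff.2 (Subtype.ext h3.eq)⟩
  have hWf : W ≤ f.ker := fun w hw => by
    rw [MonoidHom.mem_ker, hf, MonoidHom.comp_apply,
      show π w = 1 from (QuotientGroup.eq_one_iff w).2 hw, map_one]
  have hfz : ∀ u : ↥M, u * u = 1 → f u = 1 := fun u hu =>
    H4.GW.fieldPart_involution e hbar hodd hKC (by rw [← map_mul, hu, map_one])
  have hOpi : ∀ x ∈ O, f x = 1 → π x ∈ K ∧ Odd (orderOf (π x)) ∧ Commute (π t') (π x) := by
    intro x hx hfx
    have ho : Odd (orderOf (π x)) := ((hOiff x).1 hx).1.of_dvd_nat (orderOf_map_dvd π x)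
    exact ⟨H62.GW.mem_of_odd e hbar hodd hKC hfx ho, ho,
      (show Commute t' x from Subtype.ext ((hOiff x).1 hx).2.eq.symm).map π⟩
  have hker : ∀ x ∈ O, Commute x b' → f x = 1 → x ∈ W := by
    intro x hx hxb hfx
    obtain ⟨hxK, ho, hxt⟩ := hOpi x hx hfx
    by_contra hxW
    exact hbK (H62.GW.mem_of_fixes e hbar hodd hKC hxK
      (hmul _ ho fun e1 => hxW ((QuotientGroup.eq_one_iff x).1 e1)) htK (hinvol _ ho_t) ht2 hxt
      (hinvol _ ho_b) hb2 (hxb.symm.map π))
  -- transfer to `M`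
  have hOM : coreAt (c ^ l) ≤ M := (H61.GW.coreAt_le _).trans hCM
  have hpair : ∀ u : ↥M, pairCore (c ^ l) (u : G) =
      (O ⊓ centralizer ({u} : Set ↥M)).map M.subtype := fun u => by
    ext x
    constructor
    · intro hx
      refine ⟨⟨x, hOM hx.1⟩, ⟨hx.1, mem_centralizer_singleton_iff.2
        (Subtype.ext (mem_centralizer_singleton_iff.1 hx.2))⟩, rfl⟩
    · rintro ⟨y, ⟨hy, hy'⟩, rfl⟩
      exact ⟨hy, mem_centralizer_singleton_iff.2 (congrArg Subtype.val (mem_centralizer_singleton_iff.1 hy'))⟩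
  rw [show pairCore (c ^ l) (c * s) = _ from hpair b', show pairCore (c ^ l) s = _ from hpair s',
    card_map_of_injective M.subtype_injective, card_map_of_injective M.subtype_injective]
  have hss : s' * s' = 1 := Subtype.ext (H39.mul_self_of_orderOf_eq_two hD.os)
  have hbb : b' * b' = 1 := H39.mul_self_of_orderOf_eq_two ho_b
  have hsO := hnormO s' (hD.z_central hD.mem_s)
  have hbO := hnormO b' (hD.z_central (mul_mem hD.mem_c hD.mem_s))
  refine card_fixed_lt f hOodd hss hbb hsO hbO (hfz _ hss) (hfz _ hbb) hWO hWf hker fun hle => ?_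
  -- `cs` cannot centralise the core
  obtain ⟨x, hxK, hxx, hbx⟩ := exists_fixed_of_outer e hbar hodd h3 hKC hb2 hbK
  have hx1 : x ≠ 1 := fun e1 => hxx (by rw [e1, one_mul])
  have hxo : Odd (orderOf x) := by
    by_contra he
    obtain ⟨n, hn⟩ := (Nat.not_odd_iff_even.1 he).two_dvd
    have hn0 : n ≠ 0 := fun e0 => (orderOf_pos x).ne' (by rw [hn, e0, mul_zero])
    have ha : orderOf (x ^ n) = 2 := by
      rw [orderOf_pow_of_dvd hn0 ⟨2, by rw [hn, mul_comm]⟩, hn]
      exact Nat.mul_div_cancel _ (Nat.pos_of_ne_zero hn0)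
    exact hbK (H62.GW.mem_of_fixes e hbar hodd hKC hxK hxx (pow_mem hxK n)
      (H39.ne_one_of_orderOf_eq_two ha) (H39.mul_self_of_orderOf_eq_two ha)
      ((Commute.refl x).pow_left n) (fun e1 => hinvol _ ho_b e1) hb2 hbx)
  have hxt : ¬ Commute (π t') x := fun hc => hbK
    (H62.GW.mem_of_fixes e hbar hodd hKC hxK hxx htK (hinvol _ ho_t) ht2 hc
      (hinvol _ ho_b) hb2 hbx)
  -- a preimage centralised by `cs`
  obtain ⟨m, hm⟩ := QuotientGroup.mk'_surjective W x
  have hmb : Commute b' m := by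
    set w := m⁻¹ * (b' * m * b'⁻¹) with hw
    have hwW : w ∈ W := (QuotientGroup.eq_one_iff w).1 (by
      show π w = 1
      rw [hw, map_mul, map_mul, map_mul, map_inv, map_inv, hm, hbx.eq, mul_inv_cancel_right,
        inv_mul_cancel])
    have hwb : b' * w * b'⁻¹ = w := by
      rw [← mem_centralizer_singleton_iff.1 (hle hwW), mul_inv_cancel_right]
    have h1 : b' * (b' * m * b'⁻¹) * b'⁻¹ = m := by
      rw [inv_eq_of_mul_eq_one_right hbb, show b' * (b' * m * b') * b' = b' * b' * m * (b' * b') by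
        group, hbb, one_mul, mul_one]
    have h2 : b' * m * b'⁻¹ = m * w := by rw [hw, mul_inv_cancel_left]
    rw [h2, show b' * (m * w) * b'⁻¹ = b' * m * b'⁻¹ * (b' * w * b'⁻¹) by group, h2, hwb] at h1
    have h3 : w * w = 1 := mul_left_cancel (a := m) (by rw [← mul_assoc, h1, mul_one])
    have h4 : w = 1 := orderOf_eq_one_iff.1 (Nat.eq_one_of_dvd_coprimes (Nat.coprime_two_left.2
      (odd_orderOf_of_mem Cores.odd_card_oddCore hwW)) (orderOf_dvd_of_pow_eq_one (by rw [sq, h3]))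
      dvd_rfl)
    rw [h4, mul_one] at h2
    exact mul_inv_eq_iff_eq_mul.1 h2
  obtain ⟨k, r, hr, hkr⟩ := Nat.exists_eq_two_pow_mul_odd (orderOf_pos m).ne'
  set m' := m ^ 2 ^ k with hm'
  have hm'o : Odd (orderOf m') := by
    rw [hm', orderOf_pow_of_dvd (by positivity) ⟨r, hkr⟩, hkr, Nat.mul_div_cancel_left _ (by positivity)]
    exact hr
  have hm'b : Commute b' m' := hmb.pow_right _
  have hm'x : π m' = x ^ 2 ^ k := by rw [hm', map_pow, hm]
  have hm't : ¬ Commute (π t') (π m') := by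
    rw [hm'x]
    obtain ⟨j, hj⟩ := exists_pow_eq_self_of_coprime (x := x) (n := 2 ^ k)
      ((Nat.coprime_two_left.2 hxo).pow_left k)
    exact fun hc => hxt (hj ▸ hc.pow_right j)
  -- the odd core of `C(cs)`
  obtain ⟨y, hy⟩ := isConj_iff.1 (one_class h (c ^ l) (c * s) hD.z_order (by simpa using hD.orderOf_out 1))
  set P := (coreAt (c ^ l)).map (MulAut.conj y).toMonoidHom with hPdef
  have hPmem : ∀ z : G, z ∈ P ↔ Odd (orderOf z) ∧ Commute z (c * s) := fun z => by
    constructor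
    · rintro ⟨w, hw, rfl⟩
      obtain ⟨h1, h2⟩ := (mem_coreAt_iff hD).1 hw
      refine ⟨by simpa [H39.orderOf_conj] using h1, ?_⟩
      rw [← hy]
      exact h2.map (MulAut.conj y).toMonoidHom
    · rintro ⟨h1, h2⟩
      refine ⟨y⁻¹ * z * y, (mem_coreAt_iff hD).2 ⟨?_, ?_⟩, by simp [mul_assoc]⟩
      · have := H39.orderOf_conj y⁻¹ z
        rw [inv_inv] at this
        rwa [this]
      · rw [← hy] at h2
        have h3 := h2.map (MulAut.conj y⁻¹).toMonoidHom
        simpa [mul_assoc] using h3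
  have hPodd : Odd (Nat.card P) := by
    rw [hPdef, card_map_of_injective (MulAut.conj y).injective]
    exact H61.GW.odd_coreAt _
  have htb : Commute (c ^ l) (c * s) := (hD.z_central (mul_mem hD.mem_c hD.mem_s)).symm
  have hPt : ∀ z ∈ P, c ^ l * z * (c ^ l)⁻¹ ∈ P := fun z hz => by
    obtain ⟨h1, h2⟩ := (hPmem z).1 hz
    exact (hPmem _).2 ⟨by rwa [H39.orderOf_conj], (htb.mul_left h2).mul_left htb.inv_left⟩
  set v := m'⁻¹ * (t' * m' * t'⁻¹) with hv
  have hm'P : (m' : G) ∈ P := (hPmem _).2 ⟨by rwa [Subgroup.orderOf_coe],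
    (congrArg Subtype.val hm'b.eq).symm⟩
  have hvP : (v : G) ∈ P := mul_mem (inv_mem hm'P) (hPt _ hm'P)
  have htt : t' * t' = 1 := H39.mul_self_of_orderOf_eq_two ho_t
  have hti : t'⁻¹ = t' := inv_eq_of_mul_eq_one_right htt
  have hvinv : t' * v * t'⁻¹ = v⁻¹ := by
    rw [hv, mul_inv_rev, inv_inv, hti, mul_inv_rev, mul_inv_rev, hti,
      show t' * (m'⁻¹ * (t' * m' * t')) * t' = t' * m'⁻¹ * t' * m' * (t' * t') by group, htt, mul_one,
      mul_assoc t' m'⁻¹ t']
  have hvK : π v ∈ K := by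
    rw [hv, map_mul, map_inv, map_mul, map_mul, map_inv, hm'x]
    exact mul_mem (inv_mem (pow_mem hxK _)) (hKn.conj_mem _ (pow_mem hxK _) _)
  have hv1 : π v ≠ 1 := fun e1 => hm't (by
    rw [hv, map_mul, map_inv, map_mul, map_mul, map_inv, inv_mul_eq_one] at e1
    exact mul_inv_eq_iff_eq_mul.1 e1.symm)
  have hvb : Commute (π b') (π v) := by
    refine (show Commute b' v from ?_).map π
    exact hm'b.inv_right.mul_right
      (((show Commute b' t' from Subtype.ext htb.eq.symm).mul_right hm'b).mul_right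
        (show Commute b' t' from Subtype.ext htb.eq.symm).inv_right)
  -- a prime
  set p := (orderOf (π v)).minFac with hp
  haveI : Fact p.Prime := ⟨Nat.minFac_prime (by rwa [ne_eq, orderOf_eq_one_iff])⟩
  have hvo : Odd (orderOf v) := by
    rw [← Subgroup.orderOf_coe]
    exact ((hPmem _).1 hvP).1
  have hpodd : Odd p := (hvo.of_dvd_nat (orderOf_map_dvd π v)).of_dvd_nat (Nat.minFac_dvd _)
  have hp2 : p ≠ 2 := fun e1 => by rw [e1] at hpodd; exact absurd hpodd (by decide)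
  set v1 := v ^ (orderOf (π v) / p) with hv1def
  have hv1o : orderOf (π v1) = p := by
    rw [hv1def, map_pow]
    exact orderOf_pow_orderOf_div (orderOf_pos _).ne' (Nat.minFac_dvd _)
  have hv1P : (v1 : G) ∈ P := by
    rw [hv1def, Subgroup.coe_pow]
    exact pow_mem hvP _
  have hv1inv : t' * v1 * t'⁻¹ = v1⁻¹ := by rw [hv1def, ← conj_pow, hvinv, inv_pow]
  have hv1ne : π v1 ≠ 1 := fun e1 => by
    rw [e1, orderOf_one] at hv1o
    exact (Fact.out : p.Prime).one_lt.ne hv1o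
  have hv1p : orderOf (v1 : G) = p := by
    refine orderOf_eq_prime ?_ fun e1 => hv1ne ?_
    · have hpow : v1 ^ p ∈ W := (QuotientGroup.eq_one_iff _).1 (by
        show π (v1 ^ p) = 1
        rw [map_pow, ← hv1o, pow_orderOf_eq_one])
      have h1 : t' * v1 ^ p * t'⁻¹ = v1 ^ p :=
        mul_inv_eq_iff_eq_mul.2 (Subtype.ext ((hOiff _).1 (hWO hpow).1).2.eq.symm)
      rw [← conj_pow, hv1inv, inv_pow] at h1
      have h2 : v1 ^ p = 1 := orderOf_eq_one_iff.1 (Nat.eq_one_of_dvd_coprimes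
        (Nat.coprime_two_left.2 ((hOiff _).1 (hWO hpow).1).1)
        (orderOf_dvd_of_pow_eq_one (by rw [sq]; nth_rw 1 [← h1]; exact inv_mul_cancel _)) dvd_rfl)
      rw [← Subgroup.coe_pow, h2, Subgroup.coe_one]
    · rw [show v1 = 1 from Subtype.ext e1, map_one]
  have hdvd := dvd_of_inverted hPodd hPt hv1P hv1p (congrArg Subtype.val hv1inv)
  -- the index is that of the fixed points of `cs` on the core
  have hmap : P ⊓ centralizer ({c ^ l} : Set G) =
      (O ⊓ centralizer ({b'} : Set ↥M)).map M.subtype := by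
    rw [← hpair b']
    ext z
    rw [mem_pairCore_iff hD]
    show z ∈ P ∧ z ∈ centralizer ({c ^ l} : Set G) ↔ _
    rw [hPmem, mem_centralizer_singleton_iff]
    exact ⟨fun h1 => ⟨h1.1.1, h1.2, h1.1.2⟩, fun h1 => ⟨⟨h1.1, h1.2.2⟩, h1.2.1⟩⟩
  have hcards : ((P ⊓ centralizer ({c ^ l} : Set G)).subgroupOf P).index =
      ((O ⊓ centralizer ({b'} : Set ↥M)).subgroupOf O).index := by
    have h1 := ((P ⊓ centralizer ({c ^ l} : Set G)).subgroupOf P).card_mul_index
    have h2 := ((O ⊓ centralizer ({b'} : Set ↥M)).subgroupOf O).card_mul_index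
    have hc1 : Nat.card ↥(P ⊓ centralizer ({c ^ l} : Set G)) =
        Nat.card ↥(O ⊓ centralizer ({b'} : Set ↥M)) := by
      rw [hmap, card_map_of_injective M.subtype_injective]
    have hc2 : Nat.card P = Nat.card O := by
      rw [hPdef, card_map_of_injective (MulAut.conj y).injective, hOdef,
        Nat.card_congr (subgroupOfEquivOfLe hOM).toEquiv]
    rw [Nat.card_congr (subgroupOfEquivOfLe inf_le_left).toEquiv, hc1, hc2] at h1
    rw [Nat.card_congr (subgroupOfEquivOfLe inf_le_left).toEquiv] at h2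
    exact Nat.eq_of_mul_eq_mul_left Nat.card_pos (h1.trans h2.symm)
  have hidx := index_fixed_mul f hOodd hss hbb hsO hbO (hfz _ hss) (hfz _ hbb) hWO hWf hker hle
  rw [hcards] at hdvd
  set N := O ⊓ f.ker with hN
  have hNW : N ⊓ π.ker = W := by
    rw [hπ, QuotientGroup.ker_mk']
    exact inf_eq_right.2 (le_inf (hWO.trans inf_le_left) hWf)
  have hNcard := card_eq_ker_mul_map π N
  rw [hNW, ← hidx, mul_comm _ (Nat.card W)] at hNcard
  have hpN : p ∣ Nat.card ↥(N.map π) := Nat.eq_of_mul_eq_mul_left Nat.card_pos hNcard ▸ hdvd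
  obtain ⟨z, hz⟩ := exists_prime_orderOf_dvd_card' p hpN
  obtain ⟨n, hn, hnz⟩ := z.2
  obtain ⟨hnK, -, hnt⟩ := hOpi n hn.1 hn.2
  exact H62.GW.false_of_inner_outer e hbar hodd hKC hp2 (x := π n) (x' := π v1) (a := π t')
    (b := π b') hnK (by rw [hnz, Subgroup.orderOf_coe, hz]) (by rw [hv1def, map_pow]; exact pow_mem hvK _)
    hv1o htK (hinvol _ ho_t) ht2 hnt (hinvol _ ho_b) hb2
    (by rw [hv1def, map_pow]; exact hvb.pow_right _) hbK

end Cfsg.Agent.H91.GW
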